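import Cfsg.Agent.J2Type.Section

/-!
# Two groups of this type are isomorphic
-/

set_option autoImplicit false
set_option linter.style.haveILetI false
set_option linter.unusedSectionVars false

namespace CfsgLib.J2Type

open CfsgLib.HallJanko
open Equiv (Perm)

theorem card_sup_zpowers_le {P : Type*} [Group P] [Finite P] (H : Subgroup P) (a : P) {n : ℕ}
    (hn : Nat.card H ≤ n) (ha2 : a * a = 1) (hnorm : ∀ x ∈ H, a * x * a⁻¹ ∈ H) :
    Nat.card (H ⊔ Subgroup.zpowers a : Subgroup P) ≤ n * 2 := by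
  classical
  have hai : a⁻¹ = a := inv_eq_of_mul_eq_one_left ha2
  let K : Subgroup P :=
    { carrier := {x | x ∈ H ∨ x * a ∈ H}
      one_mem' := Or.inl H.one_mem
      mul_mem' := by
        rintro x y (hx | hx) (hy | hy)
        · exact Or.inl (mul_mem hx hy)
        · exact Or.inr (by rw [mul_assoc]; exact mul_mem hx hy)
        · refine Or.inr ?_
          have := mul_mem hx (hnorm y hy)
          rw [hai] at this
          rwa [show x * a * (a * y * a) = x * (a * a) * y * a by group, ha2, mul_one] at this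
        · refine Or.inl ?_
          have := mul_mem hx (hnorm _ hy)
          rw [hai] at this
          rwa [show x * a * (a * (y * a) * a) = x * (a * a) * y * (a * a) by group, ha2, mul_one, mul_one] at this
      inv_mem' := by
        rintro x (hx | hx)
        · exact Or.inl (inv_mem hx)
        · refine Or.inr ?_
          have := hnorm _ (inv_mem hx)
          rw [mul_inv_rev, hai] at this
          rwa [show a * (a * x⁻¹) * a = (a * a) * x⁻¹ * a by group, ha2, one_mul] at this }
  have hle : H ⊔ Subgroup.zpowers a ≤ K := sup_le (fun x hx => Or.inl hx)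
    (Subgroup.zpowers_le.2 (Or.inr (by rw [ha2]; exact H.one_mem)))
  refine (Subgroup.card_le_of_le hle).trans ?_
  refine le_trans ?_ (Nat.mul_le_mul_right 2 hn)
  have e : ∀ x : K, (x : P) ∈ H ∨ (x : P) * a ∈ H := fun x => x.2
  let f : K → H × Bool := fun x => if hx : (x : P) ∈ H then (⟨x, hx⟩, true) else
    (⟨(x : P) * a, (e x).resolve_left hx⟩, false)
  have hf : Function.Injective f := by
    intro x y hxy
    simp only [f] at hxy
    split_ifs at hxy with hx hy hy
    · exact Subtype.ext (congrArg (fun p : H × Bool => (p.1 : P)) hxy)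
    · exact absurd (congrArg Prod.snd hxy) (by simp)
    · exact absurd (congrArg Prod.snd hxy) (by simp)
    · exact Subtype.ext (mul_right_cancel (congrArg (fun p : H × Bool => (p.1 : P)) hxy))
  refine (Nat.card_le_card_of_injective f hf).trans ?_
  rw [Nat.card_prod, Nat.card_eq_fintype_card (α := Bool), Fintype.card_bool]

/-- A group generated by four anticommuting involutions and their central sign has at most 32
elements. -/
theorem card_closure_le {P : Type*} [Group P] [Finite P] (Z : P) (A : Fin 5 → P) (hZ : Z * Z = 1)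
    (hA : ∀ i, A i * A i = 1) (hAZ : ∀ i, A i * Z = Z * A i)
    (hnc : ∀ i j, i ≠ j → A i * A j = A j * A i * Z) (hprod : A 0 * A 1 * A 2 * A 3 * A 4 = 1) :
    Nat.card (Subgroup.closure (insert Z (Set.range A))) ≤ 32 := by
  classical
  let H : ℕ → Subgroup P := fun k => Nat.rec (motive := fun _ => Subgroup P) (Subgroup.zpowers Z)
    (fun k Hk => Hk ⊔ Subgroup.zpowers (A (Fin.ofNat 5 k))) k
  have hsucc : ∀ k, H (k + 1) = H k ⊔ Subgroup.zpowers (A (Fin.ofNat 5 k)) := fun k => rfl
  have hmono : ∀ k l, k ≤ l → H k ≤ H l := fun k l hkl => by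
    induction hkl with
    | refl => exact le_rfl
    | step _ ih => exact ih.trans le_sup_left
  have hnorm : ∀ (k : ℕ) (i : Fin 5), ∀ x ∈ H k, A i * x * (A i)⁻¹ ∈ H k := by
    intro k i
    have hai : (A i)⁻¹ = A i := inv_eq_of_mul_eq_one_left (hA i)
    induction k with
    | zero =>
      intro x hx
      have hc : Commute (A i) x := by
        obtain ⟨n, rfl⟩ := Subgroup.mem_zpowers_iff.1 hx
        exact (show Commute (A i) Z from hAZ i).zpow_right n
      rw [hc.eq, mul_inv_cancel_right]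
      exact hx
    | succ k ih =>
      have hle : H (k + 1) ≤ (H (k + 1)).comap (MulAut.conj (A i)).toMonoidHom := by
        conv_lhs => rw [hsucc]
        refine sup_le (fun x hx => ?_) (Subgroup.zpowers_le.2 ?_)
        · exact hmono k (k + 1) (Nat.le_succ k) (ih x hx)
        · show A i * A (Fin.ofNat 5 k) * (A i)⁻¹ ∈ H (k + 1)
          have hm : A (Fin.ofNat 5 k) ∈ H (k + 1) := Subgroup.mem_sup_right (Subgroup.mem_zpowers _)
          rcases eq_or_ne i (Fin.ofNat 5 k) with h | h
          · rw [h, mul_inv_cancel_right]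
            exact hm
          · rw [hnc _ _ h, mul_assoc (A (Fin.ofNat 5 k) * A i), ← (show Commute (A i) Z from hAZ i).inv_left.eq,
              ← mul_assoc, mul_inv_cancel_right]
            exact mul_mem hm (hmono 0 (k + 1) (Nat.zero_le _) (Subgroup.mem_zpowers Z))
      exact fun x hx => hle hx
  have hcard : ∀ k, Nat.card ↥(H k) ≤ 2 ^ (k + 1) := by
    intro k
    induction k with
    | zero =>
      show Nat.card (Subgroup.zpowers Z) ≤ 2
      rw [Nat.card_zpowers]
      exact orderOf_le_of_pow_eq_one (by norm_num) (by rw [sq, hZ])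
    | succ k ih =>
      rw [hsucc, pow_succ]
      exact card_sup_zpowers_le _ _ ih (hA _) (hnorm k _)
  refine le_trans ?_ (hcard 4)
  refine Subgroup.card_le_of_le ((Subgroup.closure_le (H 4)).2 ?_)
  have h' : ∀ i : Fin 5, (i : ℕ) < 4 → A i ∈ H 4 := by
    intro i hi
    have e : Fin.ofNat 5 (i : ℕ) = i := Fin.ext (Nat.mod_eq_of_lt i.2)
    have := hmono ((i : ℕ) + 1) 4 hi
    rw [hsucc, e] at this
    exact this (Subgroup.mem_sup_right (Subgroup.mem_zpowers _))
  rintro x (rfl | ⟨i, rfl⟩)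
  · exact hmono 0 4 (by norm_num) (Subgroup.mem_zpowers _)
  · by_cases hi : (i : ℕ) < 4
    · exact h' i hi
    · have h4 : i = 4 := Fin.ext (by have := i.2; show (i : ℕ) = 4; omega)
      rw [h4, show A 4 = (A 0 * A 1 * A 2 * A 3)⁻¹ from eq_inv_of_mul_eq_one_right hprod]
      exact inv_mem (mul_mem (mul_mem (mul_mem (h' 0 (by norm_num)) (h' 1 (by norm_num)))
        (h' 2 (by norm_num))) (h' 3 (by norm_num)))

/-- Uniqueness of a group of this type. -/
theorem unique {X Y : Type*} [Group X] [Finite X] [Group Y] [Finite Y] {z : X} {Q : Subgroup X}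
    {z' : Y} {Q' : Subgroup Y} (h : PreCore z Q) (hzc : ∀ x : X, x * z = z * x)
    (hout : ∃ t : X, t * t = 1 ∧ t ∉ Q) (h' : PreCore z' Q') (hzc' : ∀ x : Y, x * z' = z' * x)
    (hout' : ∃ t : Y, t * t = 1 ∧ t ∉ Q') : Nonempty (X ≃* Y) := by
  classical
  obtain ⟨N⟩ := exists_normFrame h hzc hout
  obtain ⟨N'⟩ := exists_normFrame h' hzc' hout'
  let σ : alternatingGroup (Fin 5) →* X × Y := N.σ.prod N'.σ
  let A : Fin 5 → X × Y := fun i => (N.a i, N'.a i)
  let K := Subgroup.closure (insert ((z, z') : X × Y) (Set.range A))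
  have hK : Nat.card K ≤ 32 := card_closure_le _ A (Prod.ext h.zz h'.zz)
    (fun i => Prod.ext (N.sq i) (N'.sq i)) (fun i => Prod.ext (hzc _) (hzc' _))
    (fun i j hij => Prod.ext (N.nc i j hij) (N'.nc i j hij)) (Prod.ext N.prod N'.prod)
  have hnorm : ∀ g, ∀ k ∈ K, σ g * k * (σ g)⁻¹ ∈ K := by
    intro g
    have hle : K ≤ K.comap (MulAut.conj (σ g)).toMonoidHom := by
      refine (Subgroup.closure_le _).2 ?_
      rintro x (rfl | ⟨i, rfl⟩)
      · show σ g * (z, z') * (σ g)⁻¹ ∈ K
        rw [show σ g * ((z, z') : X × Y) = (z, z') * σ g from Prod.ext (hzc _) (hzc' _), mul_inv_cancel_right]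
        exact Subgroup.subset_closure (Set.mem_insert _ _)
      · show σ g * A i * (σ g)⁻¹ ∈ K
        rw [show σ g * A i * (σ g)⁻¹ = A ((g : Perm (Fin 5)) i) from Prod.ext (N.conj g i) (N'.conj g i)]
        exact Subgroup.subset_closure (Set.mem_insert_of_mem _ ⟨_, rfl⟩)
    exact fun k hk => hle hk
  let Γ : Subgroup (X × Y) :=
    { carrier := {p | ∃ k ∈ K, ∃ g, p = k * σ g}
      one_mem' := ⟨1, K.one_mem, 1, by rw [map_one, one_mul]⟩
      mul_mem' := by
        rintro _ _ ⟨k, hk, g, rfl⟩ ⟨l, hl, g', rfl⟩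
        exact ⟨k * (σ g * l * (σ g)⁻¹), mul_mem hk (hnorm g l hl), g * g', by rw [map_mul]; group⟩
      inv_mem' := by
        rintro _ ⟨k, hk, g, rfl⟩
        exact ⟨σ g⁻¹ * k⁻¹ * (σ g⁻¹)⁻¹, hnorm _ _ (inv_mem hk), g⁻¹, by rw [map_inv]; group⟩ }
  have hΓ : Nat.card Γ ≤ 1920 := by
    let f : K × alternatingGroup (Fin 5) → Γ := fun p =>
      ⟨(p.1 : X × Y) * σ p.2, (p.1 : X × Y), p.1.2, p.2, rfl⟩
    refine (Nat.card_le_card_of_surjective f fun x => ?_).trans ?_
    · obtain ⟨x, k, hk, g, hx⟩ := x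
      exact ⟨(⟨k, hk⟩, g), Subtype.ext hx.symm⟩
    rw [Nat.card_prod, nat_card_alternatingGroup, Nat.card_fin]
    exact (Nat.mul_le_mul_right _ hK).trans (le_of_eq rfl)
  let π₁ : Γ →* X := (MonoidHom.fst X Y).comp Γ.subtype
  let π₂ : Γ →* Y := (MonoidHom.snd X Y).comp Γ.subtype
  have hmemK : ∀ k ∈ K, k ∈ Γ := fun k hk => ⟨k, hk, 1, by rw [map_one, mul_one]⟩
  have hs₁ : Function.Surjective π₁ := fun x => by
    obtain ⟨q, hq, g, rfl⟩ := N.decomp x
    have hle : Subgroup.closure (insert z (Set.range N.a)) ≤ K.map (MonoidHom.fst X Y) := by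
      rw [MonoidHom.map_closure, Set.image_insert_eq, ← Set.range_comp]; rfl
    obtain ⟨k, hk, rfl⟩ := hle (N.gen hq)
    exact ⟨⟨k * σ g, k, hk, g, rfl⟩, rfl⟩
  have hs₂ : Function.Surjective π₂ := fun x => by
    obtain ⟨q, hq, g, rfl⟩ := N'.decomp x
    have hle : Subgroup.closure (insert z' (Set.range N'.a)) ≤ K.map (MonoidHom.snd X Y) := by
      rw [MonoidHom.map_closure, Set.image_insert_eq, ← Set.range_comp]; rfl
    obtain ⟨k, hk, rfl⟩ := hle (N'.gen hq)
    exact ⟨⟨k * σ g, k, hk, g, rfl⟩, rfl⟩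
  have hb₁ : Function.Bijective π₁ := (Nat.bijective_iff_surjective_and_card π₁).2
    ⟨hs₁, le_antisymm (hΓ.trans (card_eq h hzc).ge) (Nat.card_le_card_of_surjective π₁ hs₁)⟩
  have hb₂ : Function.Bijective π₂ := (Nat.bijective_iff_surjective_and_card π₂).2
    ⟨hs₂, le_antisymm (hΓ.trans (card_eq h' hzc').ge) (Nat.card_le_card_of_surjective π₂ hs₂)⟩
  exact ⟨(MulEquiv.ofBijective π₁ hb₁).symm.trans (MulEquiv.ofBijective π₂ hb₂)⟩

end CfsgLib.J2Type
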