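import Cfsg.Agent.J2Type.Quot
import Cfsg.Agent.J2Type.Unique
import Cfsg.Agent.HallJanko.Classes

/-!
# Centralizers of central involutions for Sylow 2-subgroups of type `J₂`
-/

set_option autoImplicit false
set_option linter.style.haveILetI false
set_option linter.unusedSectionVars false

namespace CfsgLib.J2Type

open CfsgLib.HallJanko Subgroup

universe u v

variable {H : Type v} [Group H] [Finite H] {z₀ : H} {Q₀ : Subgroup H}

theorem preCore_centralizer (h : PreCore z₀ Q₀) :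
    PreCore (zK z₀) (Q₀.subgroupOf (centralizer ({z₀} : Set H))) := by
  have hQC : Q₀ ≤ centralizer ({z₀} : Set H) := fun q hq => h.mem_C hq
  refine
    { hz := by rw [← Subgroup.orderOf_coe]; exact h.hz
      hQC := fun q _ => zK_central q
      hn := fun c _ q hq => mem_subgroupOf.2 (h.hn c (mem_centralizer_singleton_iff.1 c.2) q (mem_subgroupOf.1 hq))
      hcard := by rw [Nat.card_congr (subgroupOfEquivOfLe hQC).toEquiv, h.hcard]
      hzQ := h.hzQ
      hcenter := fun q hq hc => ?_, hcomm := fun a ha b hb => ?_, hsq := fun q hq => ?_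
      hCQ := fun c _ hc => ?_, hquot := ?_ }
  · exact (h.hcenter q hq fun p hp => congrArg Subtype.val (hc ⟨p, hQC hp⟩ hp)).imp
      (fun e => Subtype.ext e) fun e => Subtype.ext e
  · exact (h.hcomm a ha b hb).imp (fun e => Subtype.ext e) fun e => Subtype.ext e
  · exact (h.hsq q hq).imp (fun e => Subtype.ext e) fun e => Subtype.ext e
  · exact h.hCQ c (mem_centralizer_singleton_iff.1 c.2) fun q hq =>
      congrArg Subtype.val (hc ⟨q, hQC hq⟩ hq)
  · obtain ⟨f, hf, hk⟩ := h.hquot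
    refine ⟨f.comp (centralizer ({zK z₀} : Set (centralizer ({z₀} : Set H)))).subtype, fun a => ?_,
      fun c => hk _⟩
    obtain ⟨x, hx⟩ := hf a
    exact ⟨⟨x, mem_centralizer_singleton_iff.2 (zK_central x)⟩, hx⟩

theorem exists_outside (h : Core z₀ Q₀) :
    ∃ t : centralizer ({z₀} : Set H), t * t = 1 ∧ t ∉ Q₀.subgroupOf (centralizer ({z₀} : Set H)) := by
  obtain ⟨x, y, hx, hy, hxy⟩ := h.hcl
  by_contra hno
  simp only [not_exists, not_and, not_not] at hno
  have key : ∀ {w : H}, orderOf w = 2 → IsConj z₀ w := by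
    intro w hw
    obtain ⟨g, hg⟩ := h.exists_conj_commute hw
    have hg2 : orderOf (g * w * g⁻¹) = 2 := by rw [CfsgLib.Small.orderOf_conj_eq, hw]
    have hmem := hno ⟨g * w * g⁻¹, mem_centralizer_singleton_iff.2 hg⟩
      (Subtype.ext (CfsgLib.Small.mul_self_of_orderOf_two hg2))
    exact (h.isConj_of_mem (mem_subgroupOf.1 hmem) hg2).trans (isConj_iff.2 ⟨g, rfl⟩ : IsConj w (g * w * g⁻¹)).symm
  exact hxy ((key hx).symm.trans (key hy))

/-- The Sylow 2-subgroup of the centralizer is one of the group. -/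
theorem exists_sylow (h : Core z₀ Q₀) (hodd : ¬ 2 ∣ (centralizer ({z₀} : Set H)).index) :
    ∃ (S₀ : Sylow 2 (centralizer ({z₀} : Set H))) (P : Sylow 2 H),
      Nonempty (Data (zK z₀) (S₀ : Subgroup (centralizer ({z₀} : Set H)))) ∧
      (P : Subgroup H) = (S₀ : Subgroup (centralizer ({z₀} : Set H))).map (centralizer ({z₀} : Set H)).subtype := by
  haveI : Fact (Nat.Prime 2) := ⟨Nat.prime_two⟩
  obtain ⟨S₀, hD⟩ := exists_data (preCore_centralizer h.toPreCore) zK_central (exists_outside h)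
  have hidx : ¬ 2 ∣ ((S₀ : Subgroup (centralizer ({z₀} : Set H))).map (centralizer ({z₀} : Set H)).subtype).index := by
    rw [index_map_subtype]
    exact Nat.Prime.not_dvd_mul Nat.prime_two S₀.not_dvd_index hodd
  exact ⟨S₀, (S₀.isPGroup'.map _).toSylow hidx, hD, IsPGroup.toSylow_coe _ _⟩

/-- The centralizer of a central involution modulo its odd core. -/
theorem main {G : Type u} [Group G] [Finite G] (h : Core z₀ Q₀)
    (hodd : ¬ 2 ∣ (centralizer ({z₀} : Set H)).index) (S : Sylow 2 G) (P : Sylow 2 H)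
    (hS : Nonempty (↥(S : Subgroup G) ≃* ↥(P : Subgroup H)))
    (h2 : ∀ K : Subgroup G, K.Normal → K.index ≠ 2) (z : G) (hz : orderOf z = 2)
    (hzS : z ∈ (S : Subgroup G)) (hzc : ∀ s ∈ (S : Subgroup G), s * z = z * s) :
    (∃ P' : Sylow 2 H, z₀ ∈ (P' : Subgroup H) ∧ ∀ s ∈ (P' : Subgroup H), s * z₀ = z₀ * s) ∧
    Nonempty ((↥(centralizer ({z} : Set G)) ⧸ Cfsg.oddCore ↥(centralizer ({z} : Set G))) ≃*
      ↥(centralizer ({z₀} : Set H))) := by
  haveI : Fact (Nat.Prime 2) := ⟨Nat.prime_two⟩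
  obtain ⟨S₀, P', ⟨D₀⟩, hP'⟩ := exists_sylow h hodd
  have hzP : z₀ ∈ (P' : Subgroup H) := hP' ▸ ⟨zK z₀, D₀.Q_le D₀.zQ, rfl⟩
  have hcP : ∀ s ∈ (P' : Subgroup H), s * z₀ = z₀ * s := fun s hs => by
    rw [hP'] at hs
    obtain ⟨x, -, rfl⟩ := hs
    exact mem_centralizer_singleton_iff.1 x.2
  refine ⟨⟨P', hzP, hcP⟩, ?_⟩
  obtain ⟨eS⟩ := hS
  let θ : ↥(S₀ : Subgroup (centralizer ({z₀} : Set H))) ≃* ↥(S : Subgroup G) :=
    ((Subgroup.equivMapOfInjective (S₀ : Subgroup (centralizer ({z₀} : Set H))) _ (Subgroup.subtype_injective _)).trans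
      (MulEquiv.subgroupCongr hP'.symm)).trans ((P'.equiv P).trans eS.symm)
  let φ : ↥(S₀ : Subgroup (centralizer ({z₀} : Set H))) →* G := (S : Subgroup G).subtype.comp θ.toMonoidHom
  have hφ : Function.Injective φ := (Subgroup.subtype_injective _).comp θ.injective
  have hrange : φ.range = (S : Subgroup G) := by
    ext y
    exact ⟨fun ⟨x, hx⟩ => hx ▸ (θ x).2, fun hy => ⟨θ.symm ⟨y, hy⟩, by simp [φ]⟩⟩
  have key : ∀ (w : G) (R : Subgroup G), R = (S : Subgroup G) → Data w R → ∀ a : G, a ∈ (S : Subgroup G) →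
      orderOf a = 2 → (∀ s ∈ (S : Subgroup G), s * a = a * s) → Nonempty (Data a (S : Subgroup G)) := by
    rintro w R rfl D a ha ha2 hac
    rcases D.center_S ha (fun s hs => (hac s hs).symm) with e | e
    · rw [e, orderOf_one] at ha2; omega
    · subst e; exact ⟨D⟩
  obtain ⟨D⟩ := key _ _ hrange (D₀.map φ hφ) z hzS hz hzc
  obtain ⟨zX, QX, hX, hXc, hXout⟩ := D.exists_preCore h2
  exact unique hX hXc hXout (preCore_centralizer h.toPreCore) zK_central (exists_outside h)

end CfsgLib.J2Type
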