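import Cfsg.Agent.J2Type.Weak
import Cfsg.Agent.A8Three.CentB
import Cfsg.Agent.GWQuasi.Basic

/-!
# The model on `C(z)` modulo `z`, and normality of the image of `Q`
-/

set_option autoImplicit false
set_option linter.style.haveILetI false
set_option linter.unusedSectionVars false
set_option maxRecDepth 100000

namespace CfsgLib.J2Type

open CfsgLib.HallJanko Subgroup
open CfsgLib.A8Three (V5 Eqv ev kl)
open Equiv (Perm)

theorem v5_decomp : ∀ v : V5, v = (if v 0 = 1 then ev 0 else 0) + ((if v 1 = 1 then ev 1 else 0) +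
    ((if v 2 = 1 then ev 2 else 0) + ((if v 3 = 1 then ev 3 else 0) + (if v 4 = 1 then ev 4 else 0)))) := by
  decide +kernel

theorem act_ev : ∀ π : Perm (Fin 5), ∀ i, CfsgLib.A8Three.act π (ev i) = ev (π i) := by decide +kernel

theorem act_add (π : Perm (Fin 5)) (u v : V5) :
    CfsgLib.A8Three.act π (u + v) = CfsgLib.A8Three.act π u + CfsgLib.A8Three.act π v := rfl

theorem act_zero (π : Perm (Fin 5)) : CfsgLib.A8Three.act π 0 = 0 := rfl

theorem val_ev : ∀ i j : Fin 5, (ev i) j = if j = i then 1 else 0 := fun _ _ => rfl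

variable {G : Type*} [Group G] [Finite G] {z : G}

/-- `z` inside its centralizer. -/
def zK (z : G) : centralizer ({z} : Set G) := ⟨z, mem_centralizer_singleton_iff.2 rfl⟩

theorem zK_central (k : centralizer ({z} : Set G)) : k * zK z = zK z * k :=
  Subtype.ext (mem_centralizer_singleton_iff.1 k.2)

instance normal_zK (z : G) : (zpowers (zK z)).Normal :=
  normal_zK_aux z
where normal_zK_aux (z : G) : (zpowers (zK z)).Normal := ⟨fun n hn k => by
  obtain ⟨i, rfl⟩ := mem_zpowers_iff.1 hn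
  have h : Commute k ((zK z) ^ i) := (show Commute k (zK z) from zK_central k).zpow_right i
  rw [h.eq, mul_inv_cancel_right]
  exact zpow_mem (mem_zpowers _) i⟩

variable {S : Sylow 2 G} (D : Data z (S : Subgroup G))

namespace Data

include D

theorem mem_Zs {x : centralizer ({z} : Set G)} : x ∈ zpowers (zK z) ↔ (x : G) = 1 ∨ (x : G) = z := by
  constructor
  · intro h
    obtain ⟨i, rfl⟩ := mem_zpowers_iff.1 h
    rcases Int.even_or_odd i with ⟨j, rfl⟩ | ⟨j, rfl⟩
    · left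
      rw [SubgroupClass.coe_zpow]
      show z ^ (j + j) = 1
      rw [← two_mul, zpow_mul, zpow_two, D.zz, one_zpow]
    · right
      rw [SubgroupClass.coe_zpow]
      show z ^ (2 * j + 1) = z
      rw [zpow_add, zpow_mul, zpow_two, D.zz, one_zpow, one_mul, zpow_one]
  · rintro (h | h)
    · rw [show x = 1 from Subtype.ext h]; exact one_mem _
    · rw [show x = zK z from Subtype.ext h]; exact mem_zpowers _

theorem mk_eq {x y : centralizer ({z} : Set G)} :
    QuotientGroup.mk' (zpowers (zK z)) x = QuotientGroup.mk' (zpowers (zK z)) y ↔ Eqz z (y : G) (x : G) := by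
  rw [QuotientGroup.mk'_eq_mk']
  constructor
  · rintro ⟨n, hn, rfl⟩
    rcases D.mem_Zs.1 hn with e | e
    · left; rw [Subgroup.coe_mul, e, mul_one]
    · right; rw [Subgroup.coe_mul, e]
  · rintro (e | e)
    · exact ⟨1, one_mem _, Subtype.ext (by rw [mul_one, e])⟩
    · exact ⟨zK z, mem_zpowers _, Subtype.ext (by rw [Subgroup.coe_mul, e]; rfl)⟩

/-- The image of a pair in the quotient. -/
def bar (i : Fin 5) : centralizer ({z} : Set G) ⧸ zpowers (zK z) :=
  QuotientGroup.mk' _ ⟨D.a i, D.S_le_C (D.Q_le (D.mem i))⟩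

theorem bar_sq (i : Fin 5) : D.bar i * D.bar i = 1 := by
  rw [bar, ← map_mul, ← map_one (QuotientGroup.mk' (zpowers (zK z)))]
  exact congrArg _ (Subtype.ext (D.sq i))

theorem bar_comm (i j : Fin 5) : D.bar i * D.bar j = D.bar j * D.bar i := by
  rw [bar, bar, ← map_mul, ← map_mul, D.mk_eq]
  rcases eq_or_ne i j with rfl | h
  · exact Or.inl rfl
  · exact Or.inr (D.nc j i h.symm)

/-- The vector map. -/
def wBar (v : V5) : centralizer ({z} : Set G) ⧸ zpowers (zK z) :=
  D.bar 0 ^ (v 0).val * (D.bar 1 ^ (v 1).val * (D.bar 2 ^ (v 2).val * (D.bar 3 ^ (v 3).val * D.bar 4 ^ (v 4).val)))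

theorem wBar_add (u v : V5) : D.wBar (u + v) = D.wBar u * D.wBar v := by
  have hp : ∀ i : Fin 5, ∀ a b : ZMod 2, D.bar i ^ (a + b).val = D.bar i ^ a.val * D.bar i ^ b.val := by
    intro i a b
    rw [ZMod.val_add, ← pow_add]
    exact (pow_eq_pow_mod _ (by rw [pow_two, D.bar_sq])).symm
  have hc : ∀ i j (m n : ℕ), Commute (D.bar i ^ m) (D.bar j ^ n) := fun i j m n =>
    (show Commute (D.bar i) (D.bar j) from D.bar_comm i j).pow_pow m n
  simp only [wBar, Pi.add_apply, hp]
  rw [((hc 4 3 _ _).symm).symm.symm.mul_mul_mul_comm]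
  rw [((hc 2 3 _ _).mul_right (hc 2 4 _ _)).mul_mul_mul_comm]
  rw [((hc 1 2 _ _).mul_right ((hc 1 3 _ _).mul_right (hc 1 4 _ _))).mul_mul_mul_comm]
  rw [((hc 0 1 _ _).mul_right ((hc 0 2 _ _).mul_right ((hc 0 3 _ _).mul_right (hc 0 4 _ _)))).mul_mul_mul_comm]

theorem wBar_zero : D.wBar 0 = 1 := by
  have h := D.wBar_add 0 0
  rwa [add_zero, left_eq_mul] at h

theorem wBar_ev (i : Fin 5) : D.wBar (ev i) = D.bar i := by
  fin_cases i <;> simp [wBar, val_ev, show (1 : ZMod 2).val = 1 from rfl]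

theorem wBar_ones : D.wBar 1 = 1 := by
  have h1 : ((1 : V5) = ev 0 + ev 1 + (ev 2 + ev 3) + ev 4) := by decide
  have h := D.five_rel (i := 4) (b := 0) (c := 1) (d := 2) (e := 3) (by decide) (by decide) (by decide) (by decide)
    (by decide) (by decide) (by decide) (by decide) (by decide) (by decide)
  rw [h1]
  simp only [wBar_add, wBar_ev]
  have e : D.bar 4 = D.bar 0 * D.bar 1 * (D.bar 2 * D.bar 3) := by
    rw [bar, bar, bar, bar, bar, ← map_mul, ← map_mul, ← map_mul, D.mk_eq]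
    exact D.symm h
  rw [← e, D.bar_sq]

/-- The image of `Q`. -/
def QBar : Subgroup (centralizer ({z} : Set G) ⧸ zpowers (zK z)) :=
  (D.Q.subgroupOf (centralizer ({z} : Set G))).map (QuotientGroup.mk' _)

theorem mem_QBar {x : centralizer ({z} : Set G)} : QuotientGroup.mk' _ x ∈ D.QBar ↔ (x : G) ∈ D.Q := by
  constructor
  · rintro ⟨y, hy, e⟩
    exact D.eqz_mem hy (D.mk_eq.1 e)
  · exact fun h => ⟨x, h, rfl⟩

theorem bar_mem (i : Fin 5) : D.bar i ∈ D.QBar := D.mem_QBar.2 (D.mem i)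

theorem wBar_mem (v : V5) : D.wBar v ∈ D.QBar := by
  unfold wBar
  exact mul_mem (pow_mem (D.bar_mem 0) _) (mul_mem (pow_mem (D.bar_mem 1) _) (mul_mem (pow_mem (D.bar_mem 2) _)
    (mul_mem (pow_mem (D.bar_mem 3) _) (pow_mem (D.bar_mem 4) _))))

theorem wBar_surj : ∀ a ∈ D.QBar, ∃ v, D.wBar v = a := by
  rintro _ ⟨x, hx, rfl⟩
  rcases D.cover x hx with e | ⟨i, e⟩ | ⟨i, j, -, e⟩
  · exact ⟨0, by rw [wBar_zero, ← map_one (QuotientGroup.mk' (zpowers (zK z)))]; exact D.mk_eq.2 e⟩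
  · exact ⟨ev i, by rw [wBar_ev, bar, D.mk_eq]; exact e⟩
  · exact ⟨ev i + ev j, by rw [wBar_add, wBar_ev, wBar_ev, bar, bar, ← map_mul, D.mk_eq]; exact e⟩

theorem wBar_one_iff (v : V5) : D.wBar v = 1 ↔ Eqv v 0 := by
  classical
  let φ : Multiplicative V5 →* (centralizer ({z} : Set G) ⧸ zpowers (zK z)) :=
    { toFun := fun v => D.wBar v.toAdd
      map_one' := D.wBar_zero
      map_mul' := fun u v => D.wBar_add _ _ }
  have hrange : φ.range = D.QBar := le_antisymm (by rintro _ ⟨u, rfl⟩; exact D.wBar_mem _)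
    (fun a ha => by obtain ⟨u, hu⟩ := D.wBar_surj a ha; exact ⟨Multiplicative.ofAdd u, hu⟩)
  have hcard : Nat.card D.QBar = 16 := by
    let f := (QuotientGroup.mk' (zpowers (zK z))).comp (D.Q.subgroupOf (centralizer ({z} : Set G))).subtype
    have hf : f.range = D.QBar := by
      rw [MonoidHom.range_comp, Subgroup.range_subtype]; rfl
    have hk : Nat.card f.ker = 2 := by
      have e : f.ker = (zpowers (zK z)).subgroupOf (D.Q.subgroupOf (centralizer ({z} : Set G))) := by
        ext x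
        rw [MonoidHom.mem_ker, mem_subgroupOf]
        exact QuotientGroup.eq_one_iff _
      rw [e, Nat.card_congr (subgroupOfEquivOfLe (zpowers_le.2 (show zK z ∈ D.Q.subgroupOf _ from D.zQ))).toEquiv,
        Nat.card_zpowers]
      exact orderOf_eq_prime (by rw [pow_two]; exact Subtype.ext D.zz) fun e => D.z1 (congrArg Subtype.val e)
    have h := f.ker.card_mul_index
    rw [index_ker, hf, hk, Nat.card_congr (subgroupOfEquivOfLe (D.Q_le.trans D.S_le_C)).toEquiv, D.cardQ] at h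
    omega
  have hker : Nat.card φ.ker = 2 := by
    have h := φ.ker.card_mul_index
    rw [index_ker, hrange, hcard, Nat.card_congr (Multiplicative.toAdd (α := V5)), Nat.card_eq_fintype_card
      (α := V5), Fintype.card_fun, ZMod.card, Fintype.card_fin] at h
    omega
  obtain ⟨w, -, huniq⟩ := (Nat.card_eq_two_iff' (1 : φ.ker)).1 hker
  have hone : Multiplicative.ofAdd (1 : V5) ∈ φ.ker := D.wBar_ones
  constructor
  · intro h
    by_cases hv : v = 0
    · exact Or.inl (by rw [hv, add_zero])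
    · refine Or.inr ?_
      have e := (huniq ⟨Multiplicative.ofAdd v, h⟩ fun e => hv (congrArg (fun x : φ.ker => (x : Multiplicative V5).toAdd) e)).trans
        (huniq ⟨_, hone⟩ fun e => absurd (congrArg (fun x : φ.ker => (x : Multiplicative V5).toAdd) e) (by decide +kernel : (1 : V5) ≠ 0)).symm
      rw [add_zero]
      exact congrArg (fun x : φ.ker => (x : Multiplicative V5).toAdd) e
  · rintro (h | h) <;> rw [add_zero] at h <;> rw [h]
    exacts [D.wBar_zero, D.wBar_ones]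

theorem lift_norm {k : centralizer ({z} : Set G)}
    (hk : QuotientGroup.mk' _ k ∈ normalizer (D.QBar : Set (centralizer ({z} : Set G) ⧸ zpowers (zK z)))) :
    (k : G) ∈ centralizer ({z} : Set G) ⊓ normalizer (D.Q : Set G) := by
  refine mem_inf.2 ⟨k.2, ?_⟩
  rw [mem_normalizer_iff_map_conj_eq]
  refine Subgroup.eq_of_le_of_card_ge ?_ (le_of_eq
    (Nat.card_congr (D.Q.equivMapOfInjective _ (MulAut.conj (k : G)).injective).toEquiv))
  rintro _ ⟨q, hq, rfl⟩
  have h := (mem_normalizer_iff.1 hk _).1 ((D.mem_QBar (x := ⟨q, D.S_le_C (D.Q_le hq)⟩)).2 hq)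
  rw [← map_inv, ← map_mul, ← map_mul] at h
  exact D.mem_QBar.1 h

theorem norm_of {k : centralizer ({z} : Set G)} (hk : (k : G) ∈ normalizer (D.Q : Set G)) :
    QuotientGroup.mk' _ k ∈ normalizer (D.QBar : Set (centralizer ({z} : Set G) ⧸ zpowers (zK z))) := by
  rw [mem_normalizer_iff]
  intro y
  obtain ⟨x, rfl⟩ := QuotientGroup.mk'_surjective _ y
  rw [← map_inv, ← map_mul, ← map_mul, D.mem_QBar, D.mem_QBar]
  exact mem_normalizer_iff.1 hk _

theorem exists_model (h2 : ∀ H : Subgroup G, H.Normal → H.index ≠ 2) :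
    ∃ M : CfsgLib.A8Three.Model (centralizer ({z} : Set G) ⧸ zpowers (zK z)), M.A = D.QBar := by
  classical
  obtain ⟨P⟩ := exists_perms D h2
  set π := QuotientGroup.mk' (zpowers (zK z)) with hπ
  have hzN : z ∈ centralizer ({z} : Set G) ⊓ normalizer (D.Q : Set G) := D.S_le_N (D.Q_le D.zQ)
  have hpeq : ∀ n ∈ centralizer ({z} : Set G) ⊓ normalizer (D.Q : Set G), ∀ σ : Perm (Fin 5),
      (∀ i, Eqz z (n * D.a i * n⁻¹) (D.a (σ i))) → P.p n = σ := fun n hn σ hσ =>
    Equiv.ext fun i => D.dist _ _ (D.trans (D.symm (P.act n hn i)) (hσ i))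
  have hpz : P.p z = 1 := hpeq z hzN 1 fun i => Or.inl (by
    rw [← D.zQc (D.mem i), mul_inv_cancel_right]; rfl)
  let p : centralizer ({z} : Set G) ⧸ zpowers (zK z) → Perm (Fin 5) := fun x => P.p (Quotient.out x : centralizer ({z} : Set G))
  have hpk : ∀ k : centralizer ({z} : Set G), (k : G) ∈ centralizer ({z} : Set G) ⊓ normalizer (D.Q : Set G) →
      p (π k) = P.p k := by
    intro k hk
    have e : π (Quotient.out (π k)) = π k := QuotientGroup.out_eq' _
    show P.p _ = P.p k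
    rcases D.mk_eq.1 e.symm with e' | e'
    · rw [e']
    · rw [e', P.p_mul _ hk _ hzN, hpz, mul_one]
  have hbar : ∀ k : centralizer ({z} : Set G), (k : G) ∈ centralizer ({z} : Set G) ⊓ normalizer (D.Q : Set G) →
      ∀ i, π k * D.bar i * (π k)⁻¹ = D.bar (P.p k i) := by
    intro k hk i
    rw [bar, bar, hπ, ← map_inv, ← map_mul, ← map_mul, D.mk_eq]
    exact D.symm (P.act _ hk i)
  have hSC := D.S_le_C
  let SC : Sylow 2 (centralizer ({z} : Set G)) := S.subtype hSC
  let T : Sylow 2 (centralizer ({z} : Set G) ⧸ zpowers (zK z)) := SC.mapSurjective (QuotientGroup.mk'_surjective _)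
  have hT : ∀ {k : centralizer ({z} : Set G)}, π k ∈ (T : Subgroup _) ↔ (k : G) ∈ (S : Subgroup G) := by
    intro k
    rw [show (T : Subgroup _) = (SC : Subgroup _).map π from Sylow.coe_mapSurjective _ _]
    constructor
    · rintro ⟨y, hy, e⟩
      have hy' : (y : G) ∈ (S : Subgroup G) := hy
      rcases D.mk_eq.1 e with e' | e' <;> rw [e']
      exacts [hy', mul_mem hy' (D.Q_le D.zQ)]
    · intro h
      exact ⟨k, h, rfl⟩
  have hTlift : ∀ x ∈ (T : Subgroup _), ∃ k : centralizer ({z} : Set G), π k = x ∧ (k : G) ∈ (S : Subgroup G) := by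
    intro x hx
    obtain ⟨k, rfl⟩ := QuotientGroup.mk'_surjective _ x
    exact ⟨k, rfl, hT.1 hx⟩
  obtain ⟨v, hv, hv2, hvQ⟩ := D.out
  refine ⟨{
    A := D.QBar, T := T, w := D.wBar, p := p
    le_T := ?_, T_norm := ?_, w_mem := D.wBar_mem, w_surj := D.wBar_surj, w_add := D.wBar_add
    w_one := D.wBar_one_iff, p_mul := ?_, conj_w := ?_, p_surj := ?_, p_even := ?_, cent_two := ?_
    T_fix := ?_, T_surj := ?_, closed := ?_, not_conj := ?_, outside := ?_ }, rfl⟩
  · rintro _ ⟨x, hx, rfl⟩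
    exact hT.2 (D.Q_le hx)
  · intro x hx
    obtain ⟨k, rfl, hk⟩ := hTlift x hx
    exact D.norm_of (mem_inf.1 (D.S_le_N hk)).2
  · intro m hm n hn
    obtain ⟨j, rfl⟩ := QuotientGroup.mk'_surjective _ m
    obtain ⟨k, rfl⟩ := QuotientGroup.mk'_surjective _ n
    have h1 := D.lift_norm hm
    have h2' := D.lift_norm hn
    rw [← map_mul, hpk _ h1, hpk _ h2', hpk _ (mul_mem h1 h2')]
    exact P.p_mul _ h1 _ h2'
  · intro n hn v
    obtain ⟨k, rfl⟩ := QuotientGroup.mk'_surjective _ n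
    have h1 := D.lift_norm hn
    rw [hpk _ h1]
    set σ := P.p (k : G) with hσ
    have hadd : ∀ u w : V5, π k * D.wBar u * (π k)⁻¹ = D.wBar (CfsgLib.A8Three.act σ u) →
        π k * D.wBar w * (π k)⁻¹ = D.wBar (CfsgLib.A8Three.act σ w) →
        π k * D.wBar (u + w) * (π k)⁻¹ = D.wBar (CfsgLib.A8Three.act σ (u + w)) := fun u w hu hw => by
      rw [D.wBar_add, act_add, D.wBar_add, ← hu, ← hw]; group
    have hev : ∀ (c : Prop) [Decidable c] (i : Fin 5), π k * D.wBar (if c then ev i else 0) * (π k)⁻¹ =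
        D.wBar (CfsgLib.A8Three.act σ (if c then ev i else 0)) := fun c _ i => by
      split_ifs
      · rw [act_ev, D.wBar_ev, D.wBar_ev]; exact hbar k h1 i
      · rw [act_zero, D.wBar_zero, mul_one, mul_inv_cancel]
    rw [v5_decomp v]
    exact hadd _ _ (hev _ 0) (hadd _ _ (hev _ 1) (hadd _ _ (hev _ 2) (hadd _ _ (hev _ 3) (hev _ 4))))
  · intro σ hσ
    obtain ⟨n, hn, e⟩ := P.surj σ hσ
    exact ⟨π ⟨n, (mem_inf.1 hn).1⟩, D.norm_of (mem_inf.1 hn).2, (hpk ⟨n, _⟩ hn).trans e⟩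
  · intro n hn
    obtain ⟨k, rfl⟩ := QuotientGroup.mk'_surjective _ n
    rw [hpk _ (D.lift_norm hn)]
    exact P.even _ (D.lift_norm hn)
  · intro n hn hp j hj
    obtain ⟨k, rfl⟩ := QuotientGroup.mk'_surjective _ n
    have h1 := D.lift_norm hn
    rw [hpk _ h1] at hp
    refine D.mem_QBar.2 (P.cent_two _ h1 hp (j + 1) ?_)
    rw [← map_pow, ← map_one π, D.mk_eq] at hj
    rw [pow_succ, pow_mul, pow_two]
    rcases D.symm hj with e | e
    · rw [Subgroup.coe_pow, OneMemClass.coe_one] at e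
      rw [e, mul_one]
    · rw [Subgroup.coe_pow, OneMemClass.coe_one, one_mul] at e
      rw [e, D.zz]
  · intro x hx
    obtain ⟨k, rfl, hk⟩ := hTlift x hx
    obtain ⟨i, hi⟩ := D.act _ hk
    rw [hpk _ (D.S_le_N hk), hpeq _ (D.S_le_N hk) _ hi]
    exact kl_four i
  · intro i
    obtain ⟨s, hs, hi⟩ := D.image i
    exact ⟨π ⟨s, hSC hs⟩, hT.2 hs, (hpk ⟨s, _⟩ (D.S_le_N hs)).trans (hpeq _ (D.S_le_N hs) _ hi)⟩
  · intro a ha g hg
    obtain ⟨x, hx, rfl⟩ := ha
    obtain ⟨k, rfl⟩ := QuotientGroup.mk'_surjective _ g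
    rw [← map_inv, ← map_mul, ← map_mul] at hg ⊢
    exact D.mem_QBar.2 (D.closed h2 (mem_centralizer_singleton_iff.1 k.2) hx (hT.1 hg))
  · intro h
    rw [D.wBar_add, D.wBar_ev, D.wBar_ev, isConj_iff] at h
    obtain ⟨c, hc⟩ := h
    obtain ⟨k, rfl⟩ := QuotientGroup.mk'_surjective _ c
    rw [bar, bar, ← map_inv, ← map_mul, ← map_mul, ← map_mul, D.mk_eq] at hc
    have := D.eqz_sq (y := (k : G) * D.a 0 * (k : G)⁻¹) (by
      have hk : Commute (k : G) z := mem_centralizer_singleton_iff.1 k.2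
      exact ((hk.mul_left (D.zQc (D.mem 0))).mul_left hk.inv_left).eq) hc
    rw [show (k : G) * D.a 0 * (k : G)⁻¹ * ((k : G) * D.a 0 * (k : G)⁻¹) =
      (k : G) * (D.a 0 * D.a 0) * (k : G)⁻¹ by group, D.sq, mul_one, mul_inv_cancel] at this
    exact D.z1 ((D.sq4 (by decide : (0 : Fin 5) ≠ 1)).symm.trans this)
  · refine ⟨π ⟨v, hSC hv⟩, hT.2 hv, ?_, fun h => hvQ (D.mem_QBar.1 h)⟩
    rw [← map_mul, ← map_one π]
    exact congrArg π (Subtype.ext hv2)

/-- The image of `Q` in `C(z)` modulo its odd core is normal. -/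
theorem normal_image (h2 : ∀ H : Subgroup G, H.Normal → H.index ≠ 2) :
    ((D.Q.subgroupOf (centralizer ({z} : Set G))).map
      (QuotientGroup.mk' (Cfsg.oddCore (centralizer ({z} : Set G))))).Normal := by
  classical
  obtain ⟨M, hM⟩ := D.exists_model h2
  have hMn := M.normal
  rw [hM] at hMn
  set O := Cfsg.oddCore (centralizer ({z} : Set G)) with hOdef
  set q := QuotientGroup.mk' O with hq
  have hOX : Cfsg.oddCore (centralizer ({z} : Set G) ⧸ O) = ⊥ :=
    CfsgLib.PLocal.pPrimeCore_quotient_pPrimeCore_eq_bot 2 _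
  set zX := q (zK z) with hzX
  have hzXc : ∀ x, x * zX = zX * x := fun x => by
    obtain ⟨k, rfl⟩ := QuotientGroup.mk'_surjective _ x
    rw [hzX, hq, ← map_mul, ← map_mul, zK_central]
  have hZle : zpowers zX ≤ Subgroup.center (centralizer ({z} : Set G) ⧸ O) :=
    zpowers_le.2 (Subgroup.mem_center_iff.2 hzXc)
  haveI : (zpowers zX).Normal := ⟨fun n hn k => by
    have := Subgroup.mem_center_iff.1 (hZle hn) k
    rwa [this, mul_inv_cancel_right]⟩
  have hzX2 : Nat.card (zpowers zX) = 2 := by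
    haveI : Fact (Nat.Prime 2) := ⟨Nat.prime_two⟩
    rw [Nat.card_zpowers]
    refine orderOf_eq_prime (by rw [pow_two, hzX, ← map_mul, show zK z * zK z = 1 from Subtype.ext D.zz, map_one]) ?_
    intro h
    have hmem : zK z ∈ O := (QuotientGroup.eq_one_iff _).1 h
    have := CfsgLib.A8Three.eq_one_of_odd_sq (CfsgLib.Inv54.odd_card_oddCore (G := centralizer ({z} : Set G))) hmem
      (Subtype.ext D.zz)
    exact D.z1 (congrArg Subtype.val this)
  have hO2 := CfsgLib.GWQuasi.oddCore_quotient_eq_bot hOX (zpowers zX) hZle hzX2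
  set ρ := (QuotientGroup.mk' (zpowers zX)).comp q with hρ
  have hker : zpowers (zK z) ≤ ρ.ker := zpowers_le.2 (MonoidHom.mem_ker.2 ((QuotientGroup.eq_one_iff _).2 (mem_zpowers _)))
  let φ := QuotientGroup.lift (zpowers (zK z)) ρ hker
  have hφs : Function.Surjective φ := fun x => by
    obtain ⟨k, rfl⟩ := ((QuotientGroup.mk'_surjective (zpowers zX)).comp (QuotientGroup.mk'_surjective O)) x
    exact ⟨QuotientGroup.mk k, rfl⟩
  have hmapO : (Cfsg.oddCore (centralizer ({z} : Set G) ⧸ zpowers (zK z))).map φ = ⊥ := by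
    have h := CfsgLib.PLocal.map_pPrimeCore_le_of_surjective (p := 2) hφs
    rw [eq_bot_iff, ← hO2]
    exact h
  have hn : ((D.QBar ⊔ Cfsg.oddCore (centralizer ({z} : Set G) ⧸ zpowers (zK z))).map φ).Normal := hMn.map φ hφs
  have he : (D.QBar ⊔ Cfsg.oddCore (centralizer ({z} : Set G) ⧸ zpowers (zK z))).map φ =
      ((D.Q.subgroupOf (centralizer ({z} : Set G))).map q).map (QuotientGroup.mk' (zpowers zX)) := by
    rw [Subgroup.map_sup, hmapO, sup_bot_eq, QBar, Subgroup.map_map, Subgroup.map_map]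
    congr 1
  rw [he] at hn
  have hc := hn.comap (QuotientGroup.mk' (zpowers zX))
  rwa [comap_map_eq_self] at hc
  rw [QuotientGroup.ker_mk', zpowers_le]
  exact ⟨zK z, D.zQ, rfl⟩

end Data

end CfsgLib.J2Type
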