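import Cfsg.Agent.J2Type.Perms

/-!
# `Q` is strongly closed in `C(z)`
-/

set_option autoImplicit false
set_option linter.style.haveILetI false
set_option linter.unusedSectionVars false
set_option maxRecDepth 100000
set_option synthInstance.maxSize 2000
set_option synthInstance.maxHeartbeats 200000

namespace CfsgLib.J2Type

open CfsgLib.HallJanko Subgroup
open CfsgLib.A8Three (kl kl_spec)
open Equiv (Perm)

theorem pair_cases : ∀ (l : Fin 4) (p q : Fin 5), p ≠ q → p ≠ 4 → q ≠ 4 →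
    ((kl l p = p ∧ kl l q = q) ∨ (kl l p = q ∧ kl l q = p)) ∨
    ((4 : Fin 5) ≠ p ∧ (4 : Fin 5) ≠ q ∧ (4 : Fin 5) ≠ kl l p ∧ (4 : Fin 5) ≠ kl l q ∧ kl l p ≠ kl l q ∧
      kl l p ≠ p ∧ kl l p ≠ q ∧ kl l q ≠ p ∧ kl l q ≠ q) := by decide +kernel

theorem kl_pairs : ∀ i : Fin 4, i ≠ 0 → ∀ l : Fin 4, l ≠ 0 → l ≠ i →
    (0 : Fin 5) ≠ kl i 0 ∧ kl i 0 ≠ 4 ∧ (0 : Fin 5) ≠ kl l 0 ∧ kl l 0 ≠ 4 ∧
    (kl i 0 = kl i 0 ∧ kl i (kl i 0) = 0) ∧
    ¬ ((kl l 0 = 0 ∧ kl l (kl i 0) = kl i 0) ∨ (kl l 0 = kl i 0 ∧ kl l (kl i 0) = 0)) ∧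
    ¬ ((kl i 0 = 0 ∧ kl i (kl l 0) = kl l 0) ∨ (kl i 0 = kl l 0 ∧ kl i (kl l 0) = 0)) := by decide +kernel

theorem kl_third : ∀ i : Fin 4, i ≠ 0 → ∀ l : Fin 4, l ≠ 0 → l ≠ i → ∀ m : Fin 4, m ≠ 0 → m ≠ i →
    (∀ j, kl m (kl l j) = j) ∨ (∀ j, kl m (kl l j) = kl i j) := by decide +kernel

theorem exists_kl_other : ∀ i : Fin 4, i ≠ 0 → ∃ l : Fin 4, l ≠ 0 ∧ l ≠ i := by decide +kernel

variable {G : Type*} [Group G] [Finite G]

/-- A subgroup from a predicate closed under products. -/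
def subOfMul (P : G → Prop) (h1 : P 1) (hm : ∀ a b, P a → P b → P (a * b)) : Subgroup G where
  carrier := {g | P g}
  one_mem' := h1
  mul_mem' := fun {a b} ha hb => hm a b ha hb
  inv_mem' := fun {a} ha => by
    have hp : ∀ n : ℕ, P (a ^ n) := fun n => by
      induction n with
      | zero => rwa [pow_zero]
      | succ n ih => rw [pow_succ]; exact hm _ _ ih ha
    have e : a⁻¹ = a ^ (orderOf a - 1) := by
      refine inv_eq_of_mul_eq_one_right ?_
      rw [← pow_succ', Nat.sub_add_cancel (orderOf_pos a), pow_orderOf_eq_one]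
    show P a⁻¹
    rw [e]; exact hp _

theorem mem_subOfMul {P : G → Prop} {h1 : P 1} {hm : ∀ a b, P a → P b → P (a * b)} {g : G} :
    g ∈ subOfMul P h1 hm ↔ P g := Iff.rfl

namespace Data

variable {z : G} {S : Sylow 2 G} (D : Data z (S : Subgroup G))
include D

/-- The eight elements spanned by `z`, `a 4` and `v`. -/
def Flag (v x : G) : Prop :=
  Eqz z x 1 ∨ Eqz z x (D.a 4) ∨ Eqz z x v ∨ Eqz z x (D.a 4 * v)

theorem cent_Q {v q : G} (hv : v ∈ (S : Subgroup G)) (hv2 : v * v = 1) (hvQ : v ∉ D.Q) (hq : q ∈ D.Q)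
    (hqv : q * v = v * q) : Eqz z q 1 ∨ Eqz z q (D.a 4) := by
  obtain ⟨hq2, hq4⟩ := D.cent_sq v hv hv2 hvQ q (D.Q_le hq) hqv
  rcases D.invol_Q hq hq2 with e | ⟨i, e⟩
  · exact Or.inl e
  · refine Or.inr ?_
    obtain rfl : i = 4 := by
      by_contra hi
      have h4z : D.a 4 * z = z * D.a 4 := D.zQc (D.mem 4)
      have h' := (D.eqz_comm h4z e).1 hq4.symm
      rw [D.nc 4 i (Ne.symm hi)] at h'
      exact D.z1 (mul_eq_left.1 h')
    exact e

theorem comm4 {v : G} (hv : v ∈ (S : Subgroup G)) (hv2 : v * v = 1) (hvQ : v ∉ D.Q) :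
    v * D.a 4 = D.a 4 * v := (D.cent_sq v hv hv2 hvQ v hv rfl).2

/-- From the action of `v` on `c` to that of `c` on `v`. -/
theorem flip {v c m : G} (hcz : c * z = z * c) (hvz : v * z = z * v) (hm : m * m = 1)
    (hcm : c * m = m * c) (h : Eqz z (v * c * v⁻¹) (c * m)) : Eqz z (c * v * c⁻¹) (m * v) := by
  have hmi : m⁻¹ = m := inv_eq_of_mul_eq_one_left hm
  have e0 : c * v * c⁻¹ = c * (v * c * v⁻¹)⁻¹ * v := by group
  rcases h with e | e
  · refine Or.inl ?_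
    rw [e0, e, hcm, mul_inv_rev, mul_inv_cancel_left, hmi]
  · refine Or.inr ?_
    have hzi : z⁻¹ = z := inv_eq_of_mul_eq_one_left D.zz
    rw [e0, e, hcm, mul_inv_rev, hzi, mul_inv_rev, ← mul_assoc c z, hcz, mul_assoc z c, mul_inv_cancel_left,
      hmi]
    have hmz : z * m = m * z := by
      have h1 : Commute z (c * m) := by
        have h2 : Commute z (v * c * v⁻¹) :=
          (((show Commute z v from hvz.symm).mul_right (show Commute z c from hcz.symm)).mul_right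
            (show Commute z v from hvz.symm).inv_right)
        rw [e] at h2
        have h3 := h2.mul_right (show Commute z z from rfl)
        rwa [mul_assoc, D.zz, mul_one] at h3
      have h4 := (show Commute z c from hcz.symm).inv_right.mul_right h1
      rwa [inv_mul_cancel_left] at h4
    rw [hmz, mul_assoc, ← hvz, ← mul_assoc]

/-- The action of an element of `S` on a product of two of the first four involutions. -/
theorem pair_move {v : G} (hv : v ∈ (S : Subgroup G)) {l : Fin 4}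
    (hl : ∀ j, Eqz z (v * D.a j * v⁻¹) (D.a (kl l j))) {p q : Fin 5} (hpq : p ≠ q) (hp : p ≠ 4) (hq : q ≠ 4) :
    (((kl l p = p ∧ kl l q = q) ∨ (kl l p = q ∧ kl l q = p)) →
      Eqz z (D.a p * D.a q * v * (D.a p * D.a q)⁻¹) v) ∧
    (¬ ((kl l p = p ∧ kl l q = q) ∨ (kl l p = q ∧ kl l q = p)) →
      Eqz z (D.a p * D.a q * v * (D.a p * D.a q)⁻¹) (D.a 4 * v)) := by
  have hcQ : D.a p * D.a q ∈ D.Q := mul_mem (D.mem p) (D.mem q)
  have hc := D.zQc hcQ
  have hvz := D.zS v hv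
  have himg : Eqz z (v * (D.a p * D.a q) * v⁻¹) (D.a (kl l p) * D.a (kl l q)) := by
    rw [show v * (D.a p * D.a q) * v⁻¹ = v * D.a p * v⁻¹ * (v * D.a q * v⁻¹) by group]
    exact D.eqz_mul (D.zQc (D.mem _)) (hl p) (hl q)
  constructor
  · intro h
    have h1 : Eqz z (v * (D.a p * D.a q) * v⁻¹) (D.a p * D.a q * 1) := by
      rw [mul_one]
      rcases h with ⟨e1, e2⟩ | ⟨e1, e2⟩ <;> rw [e1, e2] at himg
      · exact himg
      · exact D.trans himg (Or.inr (D.nc q p hpq.symm))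
    have h2 := D.flip hc hvz (one_mul 1) (by rw [mul_one, one_mul]) h1
    rwa [one_mul] at h2
  · intro h
    obtain ⟨h4p, h4q, h4P, h4Q, hPQ, hPp, hPq, hQp, hQq⟩ := (pair_cases l p q hpq hp hq).resolve_left h
    have hrel := D.five_rel h4p.symm h4q.symm h4P.symm h4Q.symm hpq hPp.symm hQp.symm hPq.symm hQq.symm hPQ
    refine D.flip hc hvz (D.sq 4) (D.comm_a h4p h4q).symm ?_
    refine D.trans himg (D.symm ?_)
    refine D.trans (D.eqz_mul (D.zQc (mul_mem (mul_mem (D.mem _) (D.mem _)) (mul_mem (D.mem _) (D.mem _))))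
      (Or.inl rfl : Eqz z (D.a p * D.a q) (D.a p * D.a q)) hrel) ?_
    rw [← mul_assoc]
    refine Or.inr ?_
    rw [D.sq4 hpq]
    exact (D.zQc (mul_mem (D.mem _) (D.mem _))).symm

/-- The flag is everything whose permutation lies in that of `{1, v}`. -/
theorem not_flag {v x : G} (hv : v ∈ (S : Subgroup G)) (hv2 : v * v = 1) (hvQ : v ∉ D.Q)
    {i : Fin 4} (hi : ∀ j, Eqz z (v * D.a j * v⁻¹) (D.a (kl i j)))
    (hx : x ∈ (S : Subgroup G)) (hxv : x * v = v * x) (hxF : ¬ D.Flag v x) :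
    ∃ l : Fin 4, l ≠ 0 ∧ l ≠ i ∧ ∀ j, Eqz z (x * D.a j * x⁻¹) (D.a (kl l j)) := by
  obtain ⟨l, hl⟩ := D.act x hx
  refine ⟨l, ?_, ?_, hl⟩
  · rintro rfl
    refine hxF ?_
    have hxQ := D.ker x hx fun j => by
      have := hl j
      rwa [kl_zero] at this
    rcases D.cent_Q hv hv2 hvQ hxQ hxv with e | e
    · exact Or.inl e
    · exact Or.inr (Or.inl e)
  · rintro rfl
    refine hxF ?_
    have hxQ : x * v ∈ D.Q := D.ker _ (mul_mem hx hv) fun j => by
      rw [show x * v * D.a j * (x * v)⁻¹ = x * (v * D.a j * v⁻¹) * x⁻¹ by group]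
      have := D.trans (D.eqz_conj (D.zS x hx) (hi j)) (hl _)
      rwa [kl_invol] at this
    have hvz : v * z = z * v := D.zS v hv
    have e0 : x * v * v = x := by rw [mul_assoc, hv2, mul_one]
    rcases D.cent_Q hv hv2 hvQ hxQ ((show Commute x v from hxv).mul_left (Commute.refl v)).eq with e | e <;>
      have e' := D.eqz_mul hvz e (Or.inl rfl : Eqz z v v) <;> rw [e0] at e'
    · rw [one_mul] at e'
      exact Or.inr (Or.inr (Or.inl e'))
    · exact Or.inr (Or.inr (Or.inr e'))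

/-- Two elements of `Q` acting on the centralizer of `v`. -/
theorem exists_movers {v : G} (hv : v ∈ (S : Subgroup G)) (hv2 : v * v = 1) (hvQ : v ∉ D.Q) :
    ∃ c c' : G, (c ∈ D.Q ∧ c * D.a 4 = D.a 4 * c) ∧ (c' ∈ D.Q ∧ c' * D.a 4 = D.a 4 * c') ∧
      (∀ x ∈ (S : Subgroup G), Eqz z (c * x * c⁻¹) x ∨ Eqz z (c * x * c⁻¹) (D.a 4 * x)) ∧
      (∀ x ∈ (S : Subgroup G), Eqz z (c' * x * c'⁻¹) x ∨ Eqz z (c' * x * c'⁻¹) (D.a 4 * x)) ∧
      Eqz z (c * v * c⁻¹) v ∧ Eqz z (c' * v * c'⁻¹) (D.a 4 * v) ∧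
      ∀ x ∈ (S : Subgroup G), x * v = v * x → ¬ D.Flag v x → Eqz z (c * x * c⁻¹) (D.a 4 * x) := by
  obtain ⟨i, hi0, hi⟩ := D.out_act hv hvQ
  obtain ⟨l, hl0, hli⟩ := exists_kl_other i hi0
  obtain ⟨h1, h2, h3, h4, h5, -, h7⟩ := kl_pairs i hi0 l hl0 hli
  have hgen : ∀ p q : Fin 5, p ≠ q → p ≠ 4 → q ≠ 4 → (D.a p * D.a q ∈ D.Q ∧
      D.a p * D.a q * D.a 4 = D.a 4 * (D.a p * D.a q)) ∧ ∀ x ∈ (S : Subgroup G),
      Eqz z (D.a p * D.a q * x * (D.a p * D.a q)⁻¹) x ∨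
        Eqz z (D.a p * D.a q * x * (D.a p * D.a q)⁻¹) (D.a 4 * x) := fun p q hpq hp hq => by
    refine ⟨⟨mul_mem (D.mem p) (D.mem q), (D.comm_a hp.symm hq.symm).symm⟩, fun x hx => ?_⟩
    obtain ⟨m, hm⟩ := D.act x hx
    obtain ⟨hA, hB⟩ := D.pair_move hx hm hpq hp hq
    by_cases h : (kl m p = p ∧ kl m q = q) ∨ (kl m p = q ∧ kl m q = p)
    · exact Or.inl (hA h)
    · exact Or.inr (hB h)
  have h04 : (0 : Fin 5) ≠ 4 := by decide
  refine ⟨D.a 0 * D.a (kl i 0), D.a 0 * D.a (kl l 0), (hgen _ _ h1 h04 h2).1, (hgen _ _ h3 h04 h4).1,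
    (hgen _ _ h1 h04 h2).2, (hgen _ _ h3 h04 h4).2, (D.pair_move hv hi h1 h04 h2).1 (Or.inr h5),
    (D.pair_move hv hi h3 h04 h4).2 h7, fun x hx hxv hxF => ?_⟩
  obtain ⟨m, hm0, hmi, hm⟩ := D.not_flag hv hv2 hvQ hi hx hxv hxF
  exact (D.pair_move hx hm h1 h04 h2).2 (kl_pairs i hi0 m hm0 hmi).2.2.2.2.2.1

/-- No elementary abelian subgroup of order 16 is normal in `S`. -/
theorem no_normal {E : Subgroup G} (hES : E ≤ (S : Subgroup G)) (hcard : Nat.card E = 16)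
    (hsq : ∀ x ∈ E, x * x = 1) (hn : ∀ s ∈ (S : Subgroup G), ∀ x ∈ E, s * x * s⁻¹ ∈ E) : False := by
  classical
  by_cases h : ∀ x ∈ E, x ∈ D.Q
  · have hpair : ∀ x ∈ E, ∀ y ∈ E, ∀ i j, Eqz z x (D.a i) → Eqz z y (D.a j) → i = j := by
      intro x hx y hy i j hxi hyj
      by_contra hij
      have := D.eqz_sq (D.zQc (mul_mem (D.mem i) (D.mem j))) (D.eqz_mul (D.zQc (D.mem j)) hxi hyj)
      rw [hsq _ (mul_mem hx hy), D.sq4 hij] at this
      exact D.z1 this.symm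
    obtain ⟨i₀, hi₀⟩ : ∃ i₀, ∀ x ∈ E, Eqz z x 1 ∨ Eqz z x (D.a i₀) := by
      by_cases hh : ∃ x ∈ E, ∃ i, Eqz z x (D.a i)
      · obtain ⟨x, hx, i, hxi⟩ := hh
        refine ⟨i, fun y hy => ?_⟩
        rcases D.invol_Q (h y hy) (hsq y hy) with e | ⟨j, e⟩
        · exact Or.inl e
        · exact Or.inr (hpair x hx y hy i j hxi e ▸ e)
      · exact ⟨0, fun y hy => Or.inl ((D.invol_Q (h y hy) (hsq y hy)).resolve_right
          fun ⟨j, e⟩ => hh ⟨y, hy, j, e⟩)⟩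
    have hsub : (E : Set G) ⊆ ({1, 1 * z, D.a i₀, D.a i₀ * z} : Finset G) := fun x hx => by
      simp only [Finset.coe_insert, Finset.coe_singleton, Set.mem_insert_iff, Set.mem_singleton_iff]
      rcases hi₀ x hx with (e | e) | (e | e) <;> simp [e]
    have := Set.ncard_le_ncard hsub (Finset.finite_toSet _)
    rw [Set.ncard_coe_finset, ← Nat.card_coe_set_eq] at this
    have h4 : ({1, 1 * z, D.a i₀, D.a i₀ * z} : Finset G).card ≤ 4 := Finset.card_le_four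
    have h16 : Nat.card (E : Set G) = 16 := hcard
    omega
  · simp only [not_forall] at h
    obtain ⟨v, hv, hvQ⟩ := h
    obtain ⟨i, hi0, hi⟩ := D.out_act (hES hv) hvQ
    have hne : kl i 0 ≠ 0 := fun e => hi0 (kl_fix i 0 (by decide) e)
    have ha0 : (D.a 0)⁻¹ = D.a 0 := inv_eq_of_mul_eq_one_left (D.sq 0)
    have hmem : v * D.a 0 * v⁻¹ * D.a 0 ∈ E := by
      have := mul_mem hv (hn _ (D.Q_le (D.mem 0)) _ (inv_mem hv))
      rwa [ha0, show v * (D.a 0 * v⁻¹ * D.a 0) = v * D.a 0 * v⁻¹ * D.a 0 by group] at this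
    have := D.eqz_sq (D.zQc (mul_mem (D.mem _) (D.mem 0)))
      (D.eqz_mul (D.zQc (D.mem 0)) (hi 0) (Or.inl rfl : Eqz z (D.a 0) (D.a 0)))
    rw [hsq _ hmem, D.sq4 hne] at this
    exact D.z1 this.symm

theorem max_R {W : Subgroup G} (hW : IsPGroup 2 W)
    (hWle : W ≤ centralizer ({z} : Set G) ⊓ centralizer ({D.a 4} : Set G)) :
    Nat.card W ≤ Nat.card ((S : Subgroup G) ⊓ centralizer ({D.a 4} : Set G) : Subgroup G) := by
  haveI : Fact (Nat.Prime 2) := ⟨Nat.prime_two⟩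
  rw [D.card_R]
  by_contra hlt
  set W' := W ⊔ zpowers (D.a 4) with hW'
  have h4 : IsPGroup 2 (zpowers (D.a 4)) := IsPGroup.of_card (n := 1) (by
    rw [Nat.card_zpowers, pow_one]; exact orderOf_eq_prime (by rw [pow_two, D.sq]) (D.ne_one 4))
  have hW'p : IsPGroup 2 W' := hW.to_sup_of_normal_left' h4 (zpowers_le.2 (centralizer_le_normalizer _
    (mem_centralizer_iff.2 fun w hw => mem_centralizer_singleton_iff.1 (mem_inf.1 (hWle hw)).2)))
  have hW'C : W' ≤ centralizer ({z} : Set G) := sup_le (hWle.trans inf_le_left)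
    (zpowers_le.2 (mem_centralizer_singleton_iff.2 (D.zQc (D.mem 4))))
  have hW'4 : W' ≤ centralizer ({D.a 4} : Set G) := sup_le (hWle.trans inf_le_right)
    (zpowers_le.2 (mem_centralizer_singleton_iff.2 rfl))
  obtain ⟨c, hc, hcS⟩ := conj_into S.isPGroup' D.S_le_C (fun U hU _ => card_le_sylow S hU) hW'p hW'C
  set V := W'.map (MulAut.conj c).toMonoidHom with hV
  have hVS : V ≤ (S : Subgroup G) := by
    rintro _ ⟨w, hw, rfl⟩
    exact hcS w hw
  have hVeq : V = (S : Subgroup G) := by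
    refine Subgroup.eq_of_le_of_card_ge hVS ?_
    have h128 := Subgroup.card_dvd_of_le hVS
    rw [D.cardS] at h128 ⊢
    obtain ⟨k, hk, e⟩ := (Nat.dvd_prime_pow Nat.prime_two).1 (show Nat.card V ∣ 2 ^ 7 from h128)
    have hle : Nat.card W ≤ Nat.card V := by
      rw [hV, ← Nat.card_congr (W'.equivMapOfInjective _ (MulAut.conj c).injective).toEquiv]
      exact Subgroup.card_le_of_le le_sup_left
    rw [e] at hle ⊢
    have : 7 ≤ k := by
      by_contra hk'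
      have : 2 ^ k ≤ 64 := Nat.pow_le_pow_right (by norm_num) (show k ≤ 6 by omega)
      omega
    calc 128 = 2 ^ 7 := by norm_num
      _ ≤ 2 ^ k := Nat.pow_le_pow_right (by norm_num) this
  have h4mem : D.a 4 ∈ W' := mem_sup_right (mem_zpowers _)
  have hcen := D.center_S (hcS _ h4mem) (fun s hs => by
    rw [← hVeq] at hs
    obtain ⟨w, hw, rfl⟩ := hs
    have := mem_centralizer_singleton_iff.1 (hW'4 hw)
    show c * D.a 4 * c⁻¹ * (c * w * c⁻¹) = c * w * c⁻¹ * (c * D.a 4 * c⁻¹)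
    calc c * D.a 4 * c⁻¹ * (c * w * c⁻¹) = c * (D.a 4 * w) * c⁻¹ := by group
      _ = c * (w * D.a 4) * c⁻¹ := by rw [this]
      _ = _ := by group)
  rcases hcen with e | e
  · exact D.ne_one 4 (conj_eq_one_iff.1 e)
  · exact D.ne_z 4 (mul_left_cancel (mul_right_cancel
      (e.trans (by rw [mem_centralizer_singleton_iff.1 hc, mul_inv_cancel_right] : z = c * z * c⁻¹))))

end Data

end CfsgLib.J2Type
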