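import Cfsg.Agent.J2Type.Section
import Cfsg.Agent.A8Three.Comb

/-!
# A Sylow 2-subgroup of the centralizer of an involution of `J₂`
-/

set_option autoImplicit false
set_option linter.style.haveILetI false
set_option linter.unusedSectionVars false
set_option maxRecDepth 100000
set_option synthInstance.maxSize 2000
set_option synthInstance.maxHeartbeats 200000

namespace CfsgLib.J2Type

open CfsgLib.HallJanko
open CfsgLib.A8Three (kl kl_spec kl_mul kl_inj)
open Equiv (Perm)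

/-- The properties of the Sylow subgroup. -/
structure Data {G : Type*} [Group G] (z : G) (S : Subgroup G) where
  Q : Subgroup G
  a : Fin 5 → G
  zz : z * z = 1
  z1 : z ≠ 1
  Q_le : Q ≤ S
  cardS : Nat.card S = 128
  cardQ : Nat.card Q = 32
  zQ : z ∈ Q
  zS : ∀ s ∈ S, s * z = z * s
  center : ∀ q ∈ Q, (∀ p ∈ Q, q * p = p * q) → q = 1 ∨ q = z
  comm : ∀ p ∈ Q, ∀ q ∈ Q, p * q = q * p ∨ p * q = q * p * z
  norm : ∀ s ∈ S, ∀ q ∈ Q, s * q * s⁻¹ ∈ Q
  mem : ∀ i, a i ∈ Q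
  sq : ∀ i, a i * a i = 1
  ne_one : ∀ i, a i ≠ 1
  ne_z : ∀ i, a i ≠ z
  dist : ∀ i j, Eqz z (a i) (a j) → i = j
  nc : ∀ i j, i ≠ j → a i * a j = a j * a i * z
  cover : ∀ q ∈ Q, Eqz z q 1 ∨ (∃ i, Eqz z q (a i)) ∨ ∃ i j, i ≠ j ∧ Eqz z q (a i * a j)
  pair : ∀ i j k l, i ≠ j → k ≠ l → Eqz z (a i * a j) (a k * a l) →
    (i = k ∧ j = l) ∨ (i = l ∧ j = k)
  act : ∀ s ∈ S, ∃ i : Fin 4, ∀ j, Eqz z (s * a j * s⁻¹) (a (kl i j))
  ker : ∀ s ∈ S, (∀ j, Eqz z (s * a j * s⁻¹) (a j)) → s ∈ Q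
  image : ∀ i : Fin 4, ∃ s ∈ S, ∀ j, Eqz z (s * a j * s⁻¹) (a (kl i j))
  root : ∀ x ∈ S, x * x = z → x ∈ Q
  out : ∃ v ∈ S, v * v = 1 ∧ v ∉ Q
  cent_card : ∀ v ∈ S, v * v = 1 → v ∉ Q →
    Nat.card (S ⊓ Subgroup.centralizer ({v} : Set G) : Subgroup G) = 16
  cent_sq : ∀ v ∈ S, v * v = 1 → v ∉ Q → ∀ k ∈ S, k * v = v * k →
    k * k = 1 ∧ k * a 4 = a 4 * k

/-- The even permutations `kl i`. -/
def klA (i : Fin 4) : alternatingGroup (Fin 5) :=
  ⟨kl i, Equiv.Perm.mem_alternatingGroup.2 (kl_spec i).1⟩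

theorem cent_klA : ∀ i : Fin 4, i ≠ 0 → ∀ g : alternatingGroup (Fin 5),
    g * klA i = klA i * g → ∃ j, g = klA j := by decide +kernel

theorem klA_fixed : ∀ i : Fin 4, i ≠ 0 → ∀ j : Fin 5, (klA i : Perm (Fin 5)) j = j → j = 4 := by
  decide +kernel

theorem klA_four : ∀ i : Fin 4, (klA i : Perm (Fin 5)) 4 = 4 := by decide +kernel

/-- The four group. -/
def klGroup : Subgroup (alternatingGroup (Fin 5)) where
  carrier := Set.range klA
  one_mem' := ⟨0, Subtype.ext (by decide)⟩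
  mul_mem' := by
    rintro _ _ ⟨i, rfl⟩ ⟨j, rfl⟩
    obtain ⟨l, hl⟩ := kl_mul i j
    exact ⟨l, Subtype.ext hl.symm⟩
  inv_mem' := by
    rintro _ ⟨i, rfl⟩
    exact ⟨i, Subtype.ext (inv_eq_of_mul_eq_one_right (kl_spec i).2.2.1).symm⟩

theorem card_klGroup : Nat.card klGroup = 4 := by
  rw [← Nat.card_fin 4]
  refine (Nat.card_congr (Equiv.ofBijective (fun i => (⟨klA i, ⟨i, rfl⟩⟩ : klGroup))
    ⟨fun i j e => kl_inj i j (congrArg (fun g : klGroup => ((g : alternatingGroup (Fin 5)) : Perm (Fin 5))) e),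
      fun ⟨g, i, hg⟩ => ⟨i, Subtype.ext hg⟩⟩)).symm

section

variable {X : Type*} [Group X] [Finite X] {z : X} {Q : Subgroup X}

/-- `v (a b) v⁻¹ = b a` if `v` interchanges the pairs. -/
theorem invert {v a b : X} (hv : v * v = 1) (hzz : z * z = 1) (hvz : v * z = z * v)
    (haz : a * z = z * a) (hab : Eqz z (v * a * v⁻¹) b) :
    v * (a * b) * v⁻¹ = b * a := by
  have hvi : v⁻¹ = v := inv_eq_of_mul_eq_one_left hv
  rw [hvi] at hab ⊢
  rcases hab with e | e
  · have e' : v * b * v = a := by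
      rw [← e, show v * (v * a * v) * v = v * v * a * (v * v) by group, hv, one_mul, mul_one]
    rw [show v * (a * b) * v = v * a * (1 : X) * b * v by group, ← hv,
      show v * a * (v * v) * b * v = v * a * v * (v * b * v) by group, e, e']
  · have eb : b = v * a * v * z := by rw [e, mul_assoc, hzz, mul_one]
    have e' : v * b * v = a * z := by
      calc v * b * v = v * v * a * v * (z * v) := by rw [eb]; group
        _ = a * (v * v) * z := by rw [hv, one_mul, ← hvz, ← mul_assoc, mul_assoc a v v, hv]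
        _ = a * z := by rw [hv, mul_one]
    rw [show v * (a * b) * v = v * a * (1 : X) * b * v by group, ← hv,
      show v * a * (v * v) * b * v = v * a * v * (v * b * v) by group, e, e', mul_assoc b z,
      ← mul_assoc z a z, ← haz, mul_assoc a z z, hzz, mul_one]

variable (h : PreCore z Q) (hzc : ∀ x : X, x * z = z * x) (F : Frame z Q)
include h hzc

theorem root_mem (hout : ∃ t : X, t * t = 1 ∧ t ∉ Q) {x : X} (hx : x * x = z) : x ∈ Q := by
  by_contra hxQ
  obtain ⟨t, ht, htQ⟩ := hout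
  obtain ⟨F⟩ := h.exists_frame
  have hp1 : frameHom F hzc x ≠ 1 := fun e => hxQ ((frameHom_ker h hzc F x).1 e)
  have hp2 : frameHom F hzc x * frameHom F hzc x = 1 := by
    rw [← map_mul, hx, (frameHom_ker h hzc F z).2 h.hzQ]
  obtain ⟨h1, h2⟩ := F.p_invol h (hzc t) ht htQ
  obtain ⟨g, hg⟩ := Alt.inv_conj _ _ h1 h2 hp1 hp2
  obtain ⟨c, rfl⟩ := frameHom_surj h hzc F g
  obtain ⟨v, hv, hvp⟩ : ∃ v : X, v * v = 1 ∧ frameHom F hzc v = frameHom F hzc x := by
    refine ⟨c * t * c⁻¹, ?_, ?_⟩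
    · calc c * t * c⁻¹ * (c * t * c⁻¹) = c * (t * t) * c⁻¹ := by group
        _ = 1 := by rw [ht]; group
    · rw [map_mul, map_mul, map_inv, ← hg]; rfl
  have hvQ : v ∉ Q := fun e => hp1 (hvp ▸ (frameHom_ker h hzc F v).2 e)
  have hvi : v⁻¹ = v := inv_eq_of_mul_eq_one_left hv
  obtain ⟨q, hq, rfl⟩ : ∃ q ∈ Q, x = v * q := ⟨v⁻¹ * x, (frameHom_ker h hzc F _).1 (by
    rw [map_mul, map_inv, hvp, inv_mul_cancel]), by group⟩
  have hsq : ∀ q', Eqz z q q' → v * q' * (v * q') = z := fun q' e => by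
    rcases e with rfl | rfl
    · exact hx
    · rwa [← mul_assoc v q' z, (show Commute z (v * q') from (hzc _).symm).mul_mul_mul_comm, h.zz, mul_one]
        at hx
  have hfix : ∀ q', Eqz z q q' → Eqz z (v * q' * v⁻¹) q'⁻¹ := fun q' e => by
    refine Or.inr ?_
    rw [hvi, eq_comm, hzc, mul_inv_eq_iff_eq_mul, ← hsq q' e]
    group
  obtain ⟨f, hf, huniq, hvf⟩ := F.exists_fixed h (hzc v) hv hvQ
  rcases F.cover q hq with e | ⟨j, e⟩ | ⟨i, j, hij, e⟩
  · have := hsq 1 e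
    rw [mul_one, hv] at this
    exact h.z_ne_one this.symm
  · have e1 := hfix _ e
    rw [inv_eq_of_mul_eq_one_left (F.sq j)] at e1
    have hj : (F.p (hzc v) : Perm (Fin 5)) j = j :=
      F.dist _ _ (h.eqz_trans (h.eqz_symm (frameHom_act h hzc F v j)) e1)
    obtain rfl := huniq j hj
    have := hsq _ e
    rw [(show Commute (F.a j) v from hvf.symm).mul_mul_mul_comm, hv, F.sq, one_mul] at this
    exact h.z_ne_one this.symm
  · have hji : Eqz z (F.a i * F.a j)⁻¹ (F.a i * F.a j) := by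
      refine Or.inr (inv_eq_of_mul_eq_one_left ?_)
      rw [mul_assoc (F.a i * F.a j) z, ← hzc, ← mul_assoc, F.sq4 h i j hij, h.zz]
    have e2 := h.eqz_trans (h.eqz_symm (F.act_mul h (hzc v) i j)) (h.eqz_trans (hfix _ e) hji)
    rcases F.pair _ _ _ _ (fun e' => hij (Equiv.injective _ e')) hij e2 with ⟨h3, h4⟩ | ⟨h3, h4⟩
    · exact hij ((huniq i h3).trans (huniq j h4).symm)
    · have hvj : Eqz z (v * F.a i * v⁻¹) (F.a j) := h3 ▸ frameHom_act h hzc F v i
      have e3 := invert hv h.zz (hzc v) (hzc _) hvj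
      have := hsq _ e
      rw [hvi] at e3
      rw [show v * (F.a i * F.a j) * (v * (F.a i * F.a j)) = v * (F.a i * F.a j) * v * (F.a i * F.a j) by group,
        e3, show F.a j * F.a i * (F.a i * F.a j) = F.a j * (F.a i * F.a i) * F.a j by group, F.sq, mul_one,
        F.sq] at this
      exact h.z_ne_one this.symm

omit F in
theorem exists_data (hout : ∃ t : X, t * t = 1 ∧ t ∉ Q) : ∃ S : Sylow 2 X, Nonempty (Data z (S : Subgroup X)) := by
  classical
  haveI : Fact (Nat.Prime 2) := ⟨Nat.prime_two⟩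
  obtain ⟨F⟩ := h.exists_frame
  set f := frameHom F hzc with hfdef
  set S₀ := klGroup.comap f with hS₀
  have hker : f.ker = Q := by
    ext x
    rw [MonoidHom.mem_ker]
    exact frameHom_ker h hzc F x
  have hQS : Q ≤ S₀ := fun q hq => by
    show f q ∈ klGroup
    rw [(frameHom_ker h hzc F q).2 hq]
    exact one_mem _
  have hidx : S₀.index = 15 := by
    rw [hS₀, Subgroup.index_comap_of_surjective _ (frameHom_surj h hzc F)]
    have := klGroup.card_mul_index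
    rw [card_klGroup, nat_card_alternatingGroup, Nat.card_fin] at this
    norm_num [Nat.factorial] at this
    omega
  have hcard : Nat.card S₀ = 128 := by
    have := S₀.card_mul_index
    rw [hidx, card_eq h hzc] at this
    omega
  have hp : IsPGroup 2 S₀ := IsPGroup.of_card (n := 7) (by rw [hcard]; norm_num)
  have hmax : ¬ 2 ∣ S₀.index := by rw [hidx]; norm_num
  refine ⟨hp.toSylow hmax, ⟨?_⟩⟩
  rw [IsPGroup.toSylow_coe]
  have hcentS : ∀ v ∈ S₀, v * v = 1 → v ∉ Q →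
      Subgroup.centralizer ({v} : Set X) ≤ S₀ ∧ ∃ i : Fin 4, i ≠ 0 ∧ f v = klA i := by
    intro v hv _ hvQ
    obtain ⟨i, hi⟩ : ∃ i, klA i = f v := hv
    have hi0 : i ≠ 0 := by
      rintro rfl
      exact hvQ ((frameHom_ker h hzc F v).1 (hi.symm.trans (Subtype.ext (by decide))))
    refine ⟨fun k hk => ?_, i, hi0, hi.symm⟩
    show f k ∈ klGroup
    obtain ⟨j, hj⟩ := cent_klA i hi0 (f k)
      (by rw [hi, ← map_mul, ← map_mul, Subgroup.mem_centralizer_singleton_iff.1 hk])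
    exact ⟨j, hj.symm⟩
  refine
    { Q := Q, a := F.a, zz := h.zz, z1 := h.z_ne_one, Q_le := hQS, cardS := hcard, cardQ := h.hcard
      zQ := h.hzQ, zS := fun s _ => hzc s, center := h.hcenter, comm := h.hcomm
      norm := fun s _ q hq => h.hn s (hzc s) q hq
      mem := F.mem, sq := F.sq, ne_one := F.ne_one, ne_z := F.ne_z, dist := F.dist, nc := F.nc
      cover := F.cover, pair := F.pair, act := ?_, ker := ?_, image := ?_
      root := fun x _ hx => root_mem h hzc hout hx, out := ?_, cent_card := ?_, cent_sq := ?_ }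
  · intro s hs
    obtain ⟨i, hi⟩ : ∃ i, klA i = f s := hs
    refine ⟨i, fun j => ?_⟩
    have := frameHom_act h hzc F s j
    rwa [← hfdef, ← hi] at this
  · intro s _ hfix
    refine (frameHom_ker h hzc F s).1 (Subtype.ext (Equiv.ext fun j => ?_))
    exact F.dist _ _ (h.eqz_trans (h.eqz_symm (frameHom_act h hzc F s j)) (hfix j))
  · intro i
    obtain ⟨s, hs⟩ := frameHom_surj h hzc F (klA i)
    refine ⟨s, ⟨i, hs.symm⟩, fun j => ?_⟩
    have := frameHom_act h hzc F s j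
    rwa [hs] at this
  · obtain ⟨t, ht, htQ⟩ := hout
    obtain ⟨h1, h2⟩ := F.p_invol h (hzc t) ht htQ
    have hk : klA 1 ≠ 1 ∧ klA 1 * klA 1 = 1 := by decide +kernel
    obtain ⟨g, hg⟩ := Alt.inv_conj _ _ h1 h2 hk.1 hk.2
    obtain ⟨c, rfl⟩ := frameHom_surj h hzc F g
    have hv : f (c * t * c⁻¹) = klA 1 := by rw [map_mul, map_mul, map_inv, ← hg]; rfl
    refine ⟨c * t * c⁻¹, ⟨1, hv.symm⟩, ?_, fun hin => hk.1 ?_⟩
    · calc c * t * c⁻¹ * (c * t * c⁻¹) = c * (t * t) * c⁻¹ := by group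
        _ = 1 := by rw [ht]; group
    · rw [← hv, hfdef]
      exact (frameHom_ker h hzc F _).2 hin
  · intro v hv hv2 hvQ
    have hm := (F.outside_main h (hzc v) hv2 hvQ).1
    rw [inf_eq_right.2 (hcentS v hv hv2 hvQ).1]
    rwa [inf_eq_right.2] at hm
    exact fun x _ => Subgroup.mem_centralizer_singleton_iff.2 (hzc x)
  · intro v hv hv2 hvQ k _ hkv
    obtain ⟨-, i, hi0, hi⟩ := hcentS v hv hv2 hvQ
    obtain ⟨f₁, hf₁, huniq, hvf⟩ := F.exists_fixed h (hzc v) hv2 hvQ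
    have h4 : f₁ = 4 := klA_fixed i hi0 f₁ (by rw [← hi]; exact hf₁)
    obtain ⟨hk2, hkf, -⟩ := F.cent_outside h (hzc v) hv2 hvQ hf₁ huniq hvf (hzc k) hkv
    exact ⟨hk2, h4 ▸ hkf⟩

end

end CfsgLib.J2Type
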