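import Cfsg.Agent.J2Type.Data

/-!
# Consequences of the structure of the Sylow subgroup, and transport
-/

set_option autoImplicit false
set_option linter.style.haveILetI false
set_option linter.unusedSectionVars false
set_option maxRecDepth 100000

namespace CfsgLib.J2Type

open CfsgLib.HallJanko
open CfsgLib.A8Three (kl kl_spec)
open Equiv (Perm)

theorem kl_four : ∀ i, kl i 4 = 4 := fun i => (kl_spec i).2.1

theorem kl_fix : ∀ i : Fin 4, ∀ j : Fin 5, j ≠ 4 → kl i j = j → i = 0 := by decide +kernel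

theorem kl_zero : ∀ j : Fin 5, kl 0 j = j := by decide +kernel

theorem kl_fixes : ∀ i : Fin 4, i ≠ 0 → ∀ j : Fin 5, kl i j = j → j = 4 := by decide +kernel

theorem kl_invol : ∀ (i : Fin 4) (j : Fin 5), kl i (kl i j) = j := by decide +kernel

theorem exists_others : ∀ i : Fin 5, ∃ b c d e : Fin 5, b ≠ i ∧ c ≠ i ∧ d ≠ i ∧ e ≠ i ∧
    b ≠ c ∧ b ≠ d ∧ b ≠ e ∧ c ≠ d ∧ c ≠ e ∧ d ≠ e := by decide +kernel

theorem five_cases : ∀ i b c d e : Fin 5, b ≠ i → c ≠ i → d ≠ i → e ≠ i →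
    b ≠ c → b ≠ d → b ≠ e → c ≠ d → c ≠ e → d ≠ e →
    ∀ n : Fin 5, n = i ∨ n = b ∨ n = c ∨ n = d ∨ n = e := by decide +kernel

theorem Eqz.map {X G : Type*} [Group X] [Group G] (φ : X →* G) {z x y : X} (h : Eqz z x y) :
    Eqz (φ z) (φ x) (φ y) := h.imp (fun e => by rw [e]) fun e => by rw [e, map_mul]

theorem Eqz.of_map {X G : Type*} [Group X] [Group G] {φ : X →* G} (hφ : Function.Injective φ)
    {z x y : X} (h : Eqz (φ z) (φ x) (φ y)) : Eqz z x y :=
  h.imp (fun e => hφ e) fun e => hφ (by rw [e, map_mul])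

namespace Data

variable {G : Type*} [Group G] {z : G} {S : Subgroup G} (D : Data z S)
include D

theorem symm {x y : G} (hxy : Eqz z x y) : Eqz z y x := by
  rcases hxy with e | e
  · exact Or.inl e.symm
  · exact Or.inr (by rw [e, mul_assoc, D.zz, mul_one])

theorem trans {x y w : G} (hxy : Eqz z x y) (hyw : Eqz z y w) : Eqz z x w := by
  rcases hxy with rfl | rfl
  · exact hyw
  · rcases hyw with rfl | rfl
    · exact Or.inr rfl
    · exact Or.inl (by rw [mul_assoc, D.zz, mul_one])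

theorem zQc {q : G} (hq : q ∈ D.Q) : q * z = z * q := D.zS q (D.Q_le hq)

theorem eqz_mul {x y x' y' : G} (hy : y' * z = z * y') (h1 : Eqz z x x') (h2 : Eqz z y y') :
    Eqz z (x * y) (x' * y') := by
  rcases h1 with rfl | rfl <;> rcases h2 with rfl | rfl
  · exact Or.inl rfl
  · exact Or.inr (by rw [mul_assoc])
  · exact Or.inr (by rw [mul_assoc, ← hy, ← mul_assoc])
  · exact Or.inl (by
      rw [mul_assoc x' z, ← mul_assoc z y', ← hy, mul_assoc y' z, D.zz, mul_one])

theorem eqz_conj {g x y : G} (hg : g * z = z * g) (hxy : Eqz z x y) :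
    Eqz z (g * x * g⁻¹) (g * y * g⁻¹) := by
  rcases hxy with rfl | rfl
  · exact Or.inl rfl
  · refine Or.inr ?_
    have hg' : z * g⁻¹ = g⁻¹ * z := (Commute.inv_left (show Commute g z from hg)).eq.symm
    rw [← mul_assoc g y z, mul_assoc (g * y) z, hg', ← mul_assoc]

theorem eqz_sq {x y : G} (hy : y * z = z * y) (hxy : Eqz z x y) : x * x = y * y := by
  rcases hxy with rfl | rfl
  · rfl
  · rw [mul_assoc y z, ← mul_assoc z y, ← hy, mul_assoc y z z, D.zz, mul_one]

theorem eqz_comm {b x y : G} (hb : b * z = z * b) (hxy : Eqz z x y) :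
    b * x = x * b ↔ b * y = y * b := by
  rcases hxy with rfl | rfl
  · rfl
  · rw [mul_assoc y z, ← hb, ← mul_assoc, ← mul_assoc]
    exact ⟨mul_right_cancel, fun e => by rw [e]⟩

theorem zi {s : G} (hs : s ∈ S) : s⁻¹ * z = z * s⁻¹ := D.zS _ (inv_mem hs)

theorem eqz_mem {x y : G} (hy : y ∈ D.Q) (hxy : Eqz z x y) : x ∈ D.Q := by
  rcases hxy with rfl | rfl
  · exact hy
  · exact D.Q.mul_mem hy D.zQ

theorem sq4 {i j : Fin 5} (hij : i ≠ j) : D.a i * D.a j * (D.a i * D.a j) = z := by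
  have e : D.a j * D.a i = D.a i * D.a j * z := D.nc j i hij.symm
  calc D.a i * D.a j * (D.a i * D.a j) = D.a i * (D.a j * D.a i) * D.a j := by group
    _ = D.a i * D.a i * (D.a j * z) * D.a j := by rw [e]; group
    _ = z := by rw [D.sq, one_mul, D.zQc (D.mem j), mul_assoc, D.sq, mul_one]

/-- An element anticommuting with both factors commutes with the product. -/
theorem anti_mul {b c d : G} (hd : d * z = z * d) (h1 : b * c = c * b * z) (h2 : b * d = d * b * z) :
    b * (c * d) = c * d * b := by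
  calc b * (c * d) = c * b * z * d := by rw [← mul_assoc, h1]
    _ = c * (b * d) * z := by rw [mul_assoc (c * b) z d, ← hd]; group
    _ = c * d * b := by
      rw [h2, show c * (d * b * z) * z = c * d * b * (z * z) by group, D.zz, mul_one]

theorem comm_anti {b c d : G} (h1 : b * c = c * b) (h2 : b * d = d * b * z) :
    b * (c * d) = c * d * b * z := by
  rw [← mul_assoc, h1, mul_assoc, h2]; group

theorem anti_comm {b c d : G} (hd : d * z = z * d) (h1 : b * c = c * b * z) (h2 : b * d = d * b) :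
    b * (c * d) = c * d * b * z := by
  rw [← mul_assoc, h1, mul_assoc (c * b) z d, ← hd, ← mul_assoc, mul_assoc c b d, h2, ← mul_assoc]

theorem comm_a {i j k : Fin 5} (h1 : i ≠ j) (h2 : i ≠ k) :
    D.a i * (D.a j * D.a k) = D.a j * D.a k * D.a i :=
  D.anti_mul (D.zQc (D.mem k)) (D.nc i j h1) (D.nc i k h2)

theorem self_anti {i j : Fin 5} (h : i ≠ j) :
    D.a i * (D.a i * D.a j) = D.a i * D.a j * D.a i * z :=
  D.comm_anti rfl (D.nc i j h)

theorem self_anti' {i j : Fin 5} (h : i ≠ j) :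
    D.a j * (D.a i * D.a j) = D.a i * D.a j * D.a j * z :=
  D.anti_comm (D.zQc (D.mem j)) (D.nc j i h.symm) rfl

/-- Each involution is, up to `z`, the product of the other four. -/
theorem five_rel {i b c d e : Fin 5} (hb : b ≠ i) (hc : c ≠ i) (hd : d ≠ i) (he : e ≠ i)
    (hbc : b ≠ c) (hbd : b ≠ d) (hbe : b ≠ e) (hcd : c ≠ d) (hce : c ≠ e) (hde : d ≠ e) :
    Eqz z (D.a i) (D.a b * D.a c * (D.a d * D.a e)) := by
  set q := D.a b * D.a c * (D.a d * D.a e) with hq
  have hqQ : q ∈ D.Q := mul_mem (mul_mem (D.mem b) (D.mem c)) (mul_mem (D.mem d) (D.mem e))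
  have hde' : D.a d * D.a e * z = z * (D.a d * D.a e) := D.zQc (mul_mem (D.mem d) (D.mem e))
  have hanti : ∀ n, n ≠ i → D.a n * q = q * D.a n * z := by
    intro n hn
    rcases five_cases i b c d e hb hc hd he hbc hbd hbe hcd hce hde n with h | h | h | h | h <;> subst h
    · exact absurd rfl hn
    · exact D.anti_comm hde' (D.self_anti hbc) (D.comm_a hbd hbe)
    · exact D.anti_comm hde' (D.self_anti' hbc) (D.comm_a hcd hce)
    · exact D.comm_anti (D.comm_a hbd.symm hcd.symm) (D.self_anti hde)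
    · exact D.comm_anti (D.comm_a hbe.symm hce.symm) (D.self_anti' hde)
  have hi : D.a i * q = q * D.a i := by
    have h1 := D.comm_a (i := i) (j := b) (k := c) hb.symm hc.symm
    have h2 := D.comm_a (i := i) (j := d) (k := e) hd.symm he.symm
    exact ((show Commute _ _ from h1).mul_right h2).eq
  have hp : ∀ n, D.a n * (D.a i * q) = D.a i * q * D.a n := fun n => by
    rcases eq_or_ne n i with rfl | hn
    · exact ((Commute.refl (D.a n)).mul_right hi).eq
    · exact D.anti_mul (D.zQc hqQ) (D.nc n i hn) (hanti n hn)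
  have hcen : ∀ p ∈ D.Q, D.a i * q * p = p * (D.a i * q) := by
    intro p hp'
    have hz' : D.a i * q * z = z * (D.a i * q) := D.zQc (mul_mem (D.mem i) hqQ)
    rcases D.cover p hp' with e' | ⟨j, e'⟩ | ⟨j, k, -, e'⟩
    · rw [D.eqz_comm hz' e', mul_one, one_mul]
    · exact (D.eqz_comm hz' e').2 (hp j).symm
    · exact (D.eqz_comm hz' e').2 ((show Commute _ _ from (hp j).symm).mul_right (hp k).symm).eq
  have hai : (D.a i)⁻¹ = D.a i := inv_eq_of_mul_eq_one_left (D.sq i)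
  rcases D.center _ (mul_mem (D.mem i) hqQ) hcen with e' | e'
  · exact Or.inl (by rw [← hai]; exact inv_eq_of_mul_eq_one_right e')
  · refine D.symm (Or.inr ?_)
    calc q = (D.a i)⁻¹ * (D.a i * q) := by group
      _ = D.a i * z := by rw [e', hai]

theorem invol_Q {q : G} (hq : q ∈ D.Q) (h2 : q * q = 1) : Eqz z q 1 ∨ ∃ i, Eqz z q (D.a i) := by
  rcases D.cover q hq with e | e | ⟨i, j, hij, e⟩
  · exact Or.inl e
  · exact Or.inr e
  · exfalso
    have := D.eqz_sq (D.zQc (mul_mem (D.mem i) (D.mem j))) e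
    rw [h2, D.sq4 hij] at this
    exact D.z1 this.symm

/-- An element of `S` moves one of the first four pairs unless it lies in `Q`. -/
theorem mem_Q_of_fix {s : G} (hs : s ∈ S) {j : Fin 5} (hj : j ≠ 4)
    (h : Eqz z (s * D.a j * s⁻¹) (D.a j)) : s ∈ D.Q := by
  obtain ⟨i, hi⟩ := D.act s hs
  obtain rfl := kl_fix i j hj (D.dist _ _ (D.trans (D.symm (hi j)) h))
  exact D.ker s hs fun k => by
    have := hi k
    rwa [kl_zero] at this

theorem mem_Q_of_comm {s : G} (hs : s ∈ S) {j : Fin 5} (hj : j ≠ 4)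
    (h : s * D.a j = D.a j * s) : s ∈ D.Q :=
  D.mem_Q_of_fix hs hj (Or.inl (by rw [h, mul_inv_cancel_right]))

theorem fix_four {s : G} (hs : s ∈ S) : Eqz z (s * D.a 4 * s⁻¹) (D.a 4) := by
  obtain ⟨i, hi⟩ := D.act s hs
  have := hi 4
  rwa [kl_four] at this

theorem center_S {c : G} (hc : c ∈ S) (h : ∀ s ∈ S, c * s = s * c) : c = 1 ∨ c = z :=
  D.center c (D.mem_Q_of_comm hc (by decide : (0 : Fin 5) ≠ 4) (h _ (D.Q_le (D.mem 0))))
    fun p hp => h p (D.Q_le hp)

/-- An involution of `S` outside `Q` interchanges the first four pairs in two cycles. -/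
theorem out_act {v : G} (hv : v ∈ S) (hvQ : v ∉ D.Q) :
    ∃ i : Fin 4, i ≠ 0 ∧ ∀ j, Eqz z (v * D.a j * v⁻¹) (D.a (kl i j)) := by
  obtain ⟨i, hi⟩ := D.act v hv
  refine ⟨i, ?_, hi⟩
  rintro rfl
  exact hvQ (D.ker v hv fun j => by
    have := hi j
    rwa [kl_zero] at this)

/-- Transport along an injective homomorphism defined on `S`. -/
def map {H : Type*} [Group H] (φ : S →* H) (hφ : Function.Injective φ) :
    Data (φ ⟨z, D.Q_le D.zQ⟩) φ.range where
  Q := (D.Q.subgroupOf S).map φ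
  a i := φ ⟨D.a i, D.Q_le (D.mem i)⟩
  zz := by rw [← map_mul, ← map_one φ]; exact congrArg φ (Subtype.ext D.zz)
  z1 e := D.z1 (congrArg Subtype.val (hφ (e.trans (map_one φ).symm)))
  Q_le := by rintro _ ⟨x, -, rfl⟩; exact ⟨x, rfl⟩
  cardS := by rw [← Nat.card_congr (MonoidHom.ofInjective hφ).toEquiv, D.cardS]
  cardQ := by
    rw [← Nat.card_congr ((D.Q.subgroupOf S).equivMapOfInjective φ hφ).toEquiv,
      Nat.card_congr (Subgroup.subgroupOfEquivOfLe D.Q_le).toEquiv, D.cardQ]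
  zQ := ⟨_, Subgroup.mem_subgroupOf.2 D.zQ, rfl⟩
  zS := by
    rintro _ ⟨s, rfl⟩
    rw [← map_mul, ← map_mul]
    exact congrArg φ (Subtype.ext (D.zS s s.2))
  center := by
    rintro _ ⟨q, hq, rfl⟩ h
    rcases D.center q hq (fun p hp => congrArg Subtype.val (hφ (a₁ := q * ⟨p, D.Q_le hp⟩)
      (a₂ := ⟨p, D.Q_le hp⟩ * q) (by rw [map_mul, map_mul]; exact h _ ⟨_, Subgroup.mem_subgroupOf.2 hp, rfl⟩))) with e | e
    · left; rw [← map_one φ]; exact congrArg φ (Subtype.ext e)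
    · right; exact congrArg φ (Subtype.ext e)
  comm := by
    rintro _ ⟨p, hp, rfl⟩ _ ⟨q, hq, rfl⟩
    rw [← map_mul, ← map_mul, ← map_mul]
    exact (D.comm p hp q hq).imp (fun e => congrArg φ (Subtype.ext e)) fun e => congrArg φ (Subtype.ext e)
  norm := by
    rintro _ ⟨s, rfl⟩ _ ⟨q, hq, rfl⟩
    exact ⟨s * q * s⁻¹, Subgroup.mem_subgroupOf.2 (D.norm s s.2 q hq), by simp⟩
  mem i := ⟨_, Subgroup.mem_subgroupOf.2 (D.mem i), rfl⟩
  sq i := by rw [← map_mul, ← map_one φ]; exact congrArg φ (Subtype.ext (D.sq i))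
  ne_one i e := D.ne_one i (congrArg Subtype.val (hφ (e.trans (map_one φ).symm)))
  ne_z i e := D.ne_z i (congrArg Subtype.val (hφ e))
  dist i j e := D.dist i j (Eqz.map S.subtype (Eqz.of_map hφ e))
  nc i j hij := by
    rw [← map_mul, ← map_mul, ← map_mul]
    exact congrArg φ (Subtype.ext (D.nc i j hij))
  cover := by
    rintro _ ⟨q, hq, rfl⟩
    rcases D.cover q hq with e | ⟨i, e⟩ | ⟨i, j, hij, e⟩
    · left
      have e' : Eqz (⟨z, D.Q_le D.zQ⟩ : S) q 1 := Eqz.of_map (φ := S.subtype) Subtype.val_injective e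
      simpa using Eqz.map φ e'
    · exact Or.inr (Or.inl ⟨i, Eqz.map φ (Eqz.of_map (φ := S.subtype) Subtype.val_injective
        (z := ⟨z, D.Q_le D.zQ⟩) (y := ⟨D.a i, D.Q_le (D.mem i)⟩) e)⟩)
    · refine Or.inr (Or.inr ⟨i, j, hij, ?_⟩)
      rw [← map_mul]
      exact Eqz.map φ (Eqz.of_map (φ := S.subtype) Subtype.val_injective e)
  pair i j k l hij hkl e := by
    rw [← map_mul, ← map_mul] at e
    exact D.pair i j k l hij hkl (Eqz.map S.subtype (Eqz.of_map hφ e))
  act := by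
    rintro _ ⟨s, rfl⟩
    obtain ⟨i, hi⟩ := D.act s s.2
    refine ⟨i, fun j => ?_⟩
    rw [← map_inv, ← map_mul, ← map_mul]
    exact Eqz.map φ (Eqz.of_map (φ := S.subtype) Subtype.val_injective (hi j))
  ker := by
    rintro _ ⟨s, rfl⟩ h
    refine ⟨s, Subgroup.mem_subgroupOf.2 (D.ker s s.2 fun j => ?_), rfl⟩
    have := h j
    rw [← map_inv, ← map_mul, ← map_mul] at this
    exact Eqz.map S.subtype (Eqz.of_map hφ this)
  image i := by
    obtain ⟨s, hs, h⟩ := D.image i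
    refine ⟨φ ⟨s, hs⟩, ⟨_, rfl⟩, fun j => ?_⟩
    rw [← map_inv, ← map_mul, ← map_mul]
    exact Eqz.map φ (Eqz.of_map (φ := S.subtype) Subtype.val_injective (h j))
  root := by
    rintro _ ⟨x, rfl⟩ e
    rw [← map_mul] at e
    exact ⟨x, Subgroup.mem_subgroupOf.2 (D.root x x.2 (congrArg Subtype.val (hφ e))), rfl⟩
  out := by
    obtain ⟨v, hv, hv2, hvQ⟩ := D.out
    refine ⟨φ ⟨v, hv⟩, ⟨_, rfl⟩, by rw [← map_mul, ← map_one φ]; exact congrArg φ (Subtype.ext hv2), ?_⟩
    rintro ⟨x, hx, e⟩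
    rw [hφ e] at hx
    exact hvQ hx
  cent_card := by
    rintro _ ⟨v, rfl⟩ hv2 hvQ
    rw [← map_mul, ← map_one φ] at hv2
    have hvQ' : (v : G) ∉ D.Q := fun e => hvQ ⟨v, e, rfl⟩
    rw [← D.cent_card v v.2 (congrArg Subtype.val (hφ hv2)) hvQ']
    have e : (φ.range ⊓ Subgroup.centralizer ({φ v} : Set H) : Subgroup H) =
        ((S ⊓ Subgroup.centralizer ({(v : G)} : Set G)).subgroupOf S).map φ := by
      ext y
      simp only [Subgroup.mem_inf, MonoidHom.mem_range, Subgroup.mem_map, Subgroup.mem_subgroupOf,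
        Subgroup.mem_centralizer_singleton_iff]
      constructor
      · rintro ⟨⟨x, rfl⟩, h⟩
        rw [← map_mul, ← map_mul] at h
        exact ⟨x, ⟨x.2, congrArg Subtype.val (hφ h)⟩, rfl⟩
      · rintro ⟨x, ⟨-, h⟩, rfl⟩
        exact ⟨⟨x, rfl⟩, by rw [← map_mul, ← map_mul]; exact congrArg φ (Subtype.ext h)⟩
    rw [e, ← Nat.card_congr (Subgroup.equivMapOfInjective _ φ hφ).toEquiv,
      Nat.card_congr (Subgroup.subgroupOfEquivOfLe inf_le_left).toEquiv]
  cent_sq := by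
    rintro _ ⟨v, rfl⟩ hv2 hvQ _ ⟨k, rfl⟩ hk
    rw [← map_mul, ← map_one φ] at hv2
    rw [← map_mul, ← map_mul] at hk
    obtain ⟨h1, h2⟩ := D.cent_sq v v.2 (congrArg Subtype.val (hφ hv2)) (fun e => hvQ ⟨v, e, rfl⟩)
      k k.2 (congrArg Subtype.val (hφ hk))
    refine ⟨by rw [← map_mul, ← map_one φ]; exact congrArg φ (Subtype.ext h1), ?_⟩
    rw [← map_mul, ← map_mul]
    exact congrArg φ (Subtype.ext h2)

end Data

end CfsgLib.J2Type
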