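import Cfsg.Agent.J2Type.Facts
import Cfsg.Agent.A8Three.Tools

/-!
# Fusion in the centralizer of the central involution
-/

set_option autoImplicit false
set_option linter.style.haveILetI false
set_option linter.unusedSectionVars false
set_option maxRecDepth 100000
set_option synthInstance.maxSize 2000
set_option synthInstance.maxHeartbeats 200000

namespace CfsgLib.J2Type

open CfsgLib.HallJanko Subgroup
open CfsgLib.A8Three (kl kl_spec)
open Equiv (Perm)
open scoped Pointwise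

theorem kl_orbit : ∀ j : Fin 5, j ≠ 4 → ∃ i : Fin 4, kl i 0 = j := by decide +kernel

variable {G : Type*} [Group G] [Finite G]

/-- Conjugation of a 2-subgroup into a 2-subgroup of largest order. -/
theorem conj_into {P H : Subgroup G} (hP : IsPGroup 2 P) (hPH : P ≤ H)
    (hmax : ∀ W : Subgroup G, IsPGroup 2 W → W ≤ H → Nat.card W ≤ Nat.card P) {W : Subgroup G}
    (hW : IsPGroup 2 W) (hWH : W ≤ H) : ∃ h ∈ H, ∀ w ∈ W, h * w * h⁻¹ ∈ P := by
  haveI : Fact (Nat.Prime 2) := ⟨Nat.prime_two⟩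
  let PH : Sylow 2 H := ⟨P.subgroupOf H, hP.comap_of_injective _ Subtype.val_injective,
    fun {R} hR hle => by
      refine (Subgroup.eq_of_le_of_card_ge hle ?_).symm
      rw [Nat.card_congr (subgroupOfEquivOfLe hPH).toEquiv,
        Nat.card_congr (R.equivMapOfInjective H.subtype H.subtype_injective).toEquiv]
      exact hmax _ (hR.map H.subtype) (map_subtype_le R)⟩
  obtain ⟨R, hR⟩ := (hW.comap_of_injective H.subtype Subtype.val_injective).exists_le_sylow
  obtain ⟨c, hc⟩ := MulAction.exists_smul_eq H R PH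
  refine ⟨c, c.2, fun w hw => ?_⟩
  have h : c * (⟨w, hWH hw⟩ : H) * c⁻¹ ∈ (PH : Subgroup H) := by
    rw [← hc]; exact ⟨_, hR hw, rfl⟩
  exact mem_subgroupOf.1 h

theorem card_le_sylow (S : Sylow 2 G) {W : Subgroup G} (hW : IsPGroup 2 W) :
    Nat.card W ≤ Nat.card (S : Subgroup G) := by
  haveI : Fact (Nat.Prime 2) := ⟨Nat.prime_two⟩
  obtain ⟨R, hR⟩ := hW.exists_le_sylow
  exact (Subgroup.card_le_of_le hR).trans_eq (Nat.card_congr (R.equiv S).toEquiv)

theorem card_half {H K : Subgroup G} (hKH : K ≤ H) {a : G} (ha : a ∈ H) (haK : a ∉ K)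
    (hdec : ∀ b ∈ H, b ∈ K ∨ b * a ∈ K) : Nat.card K * 2 = Nat.card H := by
  have h2 : (K.subgroupOf H).index = 2 := by
    rw [index_eq_two_iff]
    refine ⟨⟨a, ha⟩, fun b => ?_⟩
    simp only [mem_subgroupOf, Subgroup.coe_mul]
    rcases hdec b b.2 with h | h
    · exact Or.inr ⟨h, fun h' => haK (by simpa using mul_mem (inv_mem h) h')⟩
    · exact Or.inl ⟨h, fun h' => haK (by simpa using mul_mem (inv_mem h') h)⟩
  have := (K.subgroupOf H).card_mul_index
  rwa [h2, Nat.card_congr (subgroupOfEquivOfLe hKH).toEquiv] at this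

namespace Data

variable {z : G} {S : Sylow 2 G} (D : Data z (S : Subgroup G))
include D

theorem isPGroup_Q : IsPGroup 2 D.Q := S.isPGroup'.to_le D.Q_le

theorem S_le_C : (S : Subgroup G) ≤ centralizer ({z} : Set G) := fun s hs =>
  mem_centralizer_singleton_iff.2 (D.zS s hs)

theorem card_CQ (i : Fin 5) : Nat.card (D.Q ⊓ centralizer ({D.a i} : Set G) : Subgroup G) = 16 := by
  obtain ⟨j, hj⟩ := exists_ne i
  have hh := card_half (H := D.Q) (K := D.Q ⊓ centralizer ({D.a i} : Set G)) inf_le_left (D.mem j)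
    (fun h => D.z1 (by
      have e := mem_centralizer_singleton_iff.1 (mem_inf.1 h).2
      rw [D.nc j i hj] at e
      exact mul_eq_left.1 e))
    (fun b hb => by
      rcases D.comm b hb (D.a i) (D.mem i) with e | e
      · exact Or.inl (mem_inf.2 ⟨hb, mem_centralizer_singleton_iff.2 e⟩)
      · refine Or.inr (mem_inf.2 ⟨mul_mem hb (D.mem j), mem_centralizer_singleton_iff.2 ?_⟩)
        calc b * D.a j * D.a i = b * D.a i * (D.a j * z) := by
              rw [mul_assoc, D.nc j i hj]; group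
          _ = D.a i * b * (z * D.a j) * z := by rw [e]; group
          _ = D.a i * b * D.a j * (z * z) := by rw [← D.zQc (D.mem j)]; group
          _ = D.a i * (b * D.a j) := by rw [D.zz, mul_one, mul_assoc])
  rw [D.cardQ] at hh
  omega

theorem card_CS {i : Fin 5} (hi : i ≠ 4) {x : G} (hx : Eqz z x (D.a i)) :
    Nat.card ((S : Subgroup G) ⊓ centralizer ({x} : Set G) : Subgroup G) = 16 := by
  rw [← D.card_CQ i]
  refine congrArg (fun K : Subgroup G => Nat.card ↥K) ?_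
  ext y
  simp only [mem_inf, mem_centralizer_singleton_iff]
  constructor
  · rintro ⟨hy, e⟩
    have e' := (D.eqz_comm (D.zS y hy) hx).1 e
    exact ⟨D.mem_Q_of_comm hy hi e', e'⟩
  · rintro ⟨hy, e⟩
    exact ⟨D.Q_le hy, (D.eqz_comm (D.zQc hy) hx).2 e⟩

theorem card_R : Nat.card ((S : Subgroup G) ⊓ centralizer ({D.a 4} : Set G) : Subgroup G) = 64 := by
  have h0 : (0 : Fin 5) ≠ 4 := by decide
  have hh := card_half (H := (S : Subgroup G)) (K := (S : Subgroup G) ⊓ centralizer ({D.a 4} : Set G))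
    inf_le_left (D.Q_le (D.mem 0))
    (fun h => D.z1 (by
      have e := mem_centralizer_singleton_iff.1 (mem_inf.1 h).2
      rw [D.nc 0 4 h0] at e
      exact mul_eq_left.1 e))
    (fun b hb => by
      rcases D.fix_four hb with e | e
      · exact Or.inl (mem_inf.2 ⟨hb, mem_centralizer_singleton_iff.2 (mul_inv_eq_iff_eq_mul.1 e)⟩)
      · refine Or.inr (mem_inf.2 ⟨mul_mem hb (D.Q_le (D.mem 0)), mem_centralizer_singleton_iff.2 ?_⟩)
        have e' : b * D.a 4 = D.a 4 * b * z := by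
          rw [mul_inv_eq_iff_eq_mul.1 e, mul_assoc, ← D.zS b hb, ← mul_assoc]
        calc b * D.a 0 * D.a 4 = b * D.a 4 * (D.a 0 * z) := by
              rw [mul_assoc, D.nc 0 4 h0]; group
          _ = D.a 4 * b * (z * D.a 0) * z := by rw [e']; group
          _ = D.a 4 * b * D.a 0 * (z * z) := by rw [← D.zQc (D.mem 0)]; group
          _ = D.a 4 * (b * D.a 0) := by rw [D.zz, mul_one, mul_assoc])
  rw [D.cardS] at hh
  omega

/-- The first step of the fusion: some element of `C(z)` moves the first pair to the last. -/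
theorem exists_move (h2 : ∀ H : Subgroup G, H.Normal → H.index ≠ 2) :
    ∃ g : G, g * z = z * g ∧ Eqz z (g * D.a 0 * g⁻¹) (D.a 4) ∧
      ∀ x ∈ D.Q ⊓ centralizer ({D.a 0} : Set G), g * x * g⁻¹ ∈ (S : Subgroup G) := by
  classical
  haveI : Fact (Nat.Prime 2) := ⟨Nat.prime_two⟩
  have h04 : (0 : Fin 5) ≠ 4 := by decide
  set R := (S : Subgroup G) ⊓ centralizer ({D.a 4} : Set G) with hR
  set u := D.a 0 with hu
  -- some conjugate of `u` lies in `R`
  obtain ⟨g₀, hg₀⟩ : ∃ g : G, g * u * g⁻¹ ∈ R := by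
    by_contra hno
    simp only [not_exists] at hno
    have hrel : R.relIndex (S : Subgroup G) = 2 := by
      show (R.subgroupOf (S : Subgroup G)).index = 2
      have h' := (R.subgroupOf (S : Subgroup G)).card_mul_index
      rw [Nat.card_congr (subgroupOfEquivOfLe (inf_le_left : R ≤ (S : Subgroup G))).toEquiv,
        show Nat.card R = 64 from D.card_R, D.cardS] at h'
      omega
    obtain ⟨f, -, hf⟩ := CfsgLib.A8Three.exists_sign_hom S R hrel
    have hfu : f u = -1 := hf u (D.sq 0) hno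
    refine h2 f.ker inferInstance ?_
    have hsurj : Function.Surjective f := fun y => by
      rcases Int.units_eq_one_or y with rfl | rfl
      exacts [⟨1, map_one f⟩, ⟨u, hfu⟩]
    rw [index_ker, MonoidHom.range_eq_top.2 hsurj, card_top, Nat.card_eq_fintype_card, Fintype.card_units_int]
  set P₀ := D.Q ⊓ centralizer ({u} : Set G) with hP₀
  have hP₀S : P₀ ≤ (S : Subgroup G) := inf_le_left.trans D.Q_le
  have hP₀p : IsPGroup 2 P₀ := S.isPGroup'.to_le hP₀S
  obtain ⟨P, hP⟩ := (hP₀p.comap_of_injective (centralizer ({u} : Set G)).subtype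
    Subtype.val_injective).exists_le_sylow
  set W := (P : Subgroup (centralizer ({u} : Set G))).map (centralizer ({u} : Set G)).subtype with hW
  have hWp : IsPGroup 2 W := P.isPGroup'.map _
  have hWu : W ≤ centralizer ({u} : Set G) := map_subtype_le _
  have hPW : P₀ ≤ W := fun x hx => ⟨⟨x, (mem_inf.1 hx).2⟩, hP hx, rfl⟩
  have hWmax : ∀ V : Subgroup G, IsPGroup 2 V → V ≤ centralizer ({u} : Set G) → Nat.card V ≤ Nat.card W := by
    intro V hV hVu
    have h := card_le_sylow P (hV.comap_of_injective (centralizer ({u} : Set G)).subtype Subtype.val_injective)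
    rw [hW, ← Nat.card_congr (Subgroup.equivMapOfInjective (P : Subgroup (centralizer ({u} : Set G))) _ (Subgroup.subtype_injective _)).toEquiv]
    exact (Nat.card_congr (subgroupOfEquivOfLe hVu).toEquiv).ge.trans h
  have h12 : D.a 1 * D.a 2 ∈ P₀ := mem_inf.2 ⟨mul_mem (D.mem 1) (D.mem 2), mem_centralizer_singleton_iff.2
    (D.comm_a (by decide : (0 : Fin 5) ≠ 1) (by decide : (0 : Fin 5) ≠ 2)).symm⟩
  have hlt : P₀ < W := by
    refine lt_of_le_of_ne hPW fun e => ?_
    have h16 : ∀ V : Subgroup G, IsPGroup 2 V → V ≤ centralizer ({u} : Set G) → Nat.card V ≤ 16 := by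
      intro V hV hVu
      have := hWmax V hV hVu
      rwa [← e, hP₀, hu, D.card_CQ 0] at this
    have hpull : ∀ {K : Subgroup G}, K ≤ (S : Subgroup G) → K ≤ centralizer ({g₀ * u * g₀⁻¹} : Set G) →
        IsPGroup 2 (K.map (MulAut.conj g₀⁻¹).toMonoidHom) ∧
        K.map (MulAut.conj g₀⁻¹).toMonoidHom ≤ centralizer ({u} : Set G) ∧
        Nat.card (K.map (MulAut.conj g₀⁻¹).toMonoidHom) = Nat.card K := by
      intro K hK hKc
      refine ⟨(S.isPGroup'.to_le hK).map _, ?_,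
        (Nat.card_congr (K.equivMapOfInjective _ (MulAut.conj g₀⁻¹).injective).toEquiv).symm⟩
      rintro _ ⟨k, hk, rfl⟩
      have := mem_centralizer_singleton_iff.1 (hKc hk)
      rw [mem_centralizer_singleton_iff]
      show g₀⁻¹ * k * g₀⁻¹⁻¹ * u = u * (g₀⁻¹ * k * g₀⁻¹⁻¹)
      calc g₀⁻¹ * k * g₀⁻¹⁻¹ * u = g₀⁻¹ * (k * (g₀ * u * g₀⁻¹)) * g₀ := by group
        _ = _ := by rw [this]; group
    obtain ⟨hvS, hv4⟩ := mem_inf.1 hg₀
    rw [mem_centralizer_singleton_iff] at hv4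
    have hv2 : g₀ * u * g₀⁻¹ * (g₀ * u * g₀⁻¹) = 1 := by
      rw [show g₀ * u * g₀⁻¹ * (g₀ * u * g₀⁻¹) = g₀ * (u * u) * g₀⁻¹ by group, hu, D.sq, mul_one, mul_inv_cancel]
    by_cases hvQ : g₀ * u * g₀⁻¹ ∈ D.Q
    · rcases D.invol_Q hvQ hv2 with e' | ⟨i, e'⟩
      · obtain ⟨a1, a2, a3⟩ := hpull le_rfl (fun s hs => mem_centralizer_singleton_iff.2
          ((D.eqz_comm (D.zS s hs) e').2 (by rw [mul_one, one_mul])))
        have := h16 _ a1 a2
        rw [a3, D.cardS] at this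
        omega
      · rcases eq_or_ne i 4 with rfl | hi
        · obtain ⟨a1, a2, a3⟩ := hpull (K := R) inf_le_left (fun s hs => mem_centralizer_singleton_iff.2
            ((D.eqz_comm (D.zS s (mem_inf.1 hs).1) e').2 (mem_centralizer_singleton_iff.1 (mem_inf.1 hs).2)))
          have := h16 _ a1 a2
          rw [a3, hR, D.card_R] at this
          omega
        · have h4z : D.a 4 * z = z * D.a 4 := D.zQc (D.mem 4)
          have h4i := ((D.eqz_comm h4z e').1 hv4.symm)
          rw [D.nc 4 i hi.symm] at h4i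
          exact D.z1 (mul_eq_left.1 h4i)
    · set K := (S : Subgroup G) ⊓ centralizer ({g₀ * u * g₀⁻¹} : Set G) with hK
      obtain ⟨a1, a2, a3⟩ := hpull (K := K) inf_le_left inf_le_right
      obtain ⟨h, hh, hhW⟩ := conj_into (P := W) hWp hWu hWmax a1 a2
      have heq : (K.map (MulAut.conj g₀⁻¹).toMonoidHom).map (MulAut.conj h).toMonoidHom = P₀ := by
        refine Subgroup.eq_of_le_of_card_ge ?_ ?_
        · rw [e]
          rintro _ ⟨w, hw, rfl⟩
          exact hhW w hw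
        · rw [← Nat.card_congr ((K.map (MulAut.conj g₀⁻¹).toMonoidHom).equivMapOfInjective _
            (MulAut.conj h).injective).toEquiv, a3, hK, D.cent_card _ hvS hv2 hvQ, hP₀, hu, D.card_CQ 0]
      rw [← heq] at h12
      obtain ⟨_, ⟨k, hk, rfl⟩, hkey⟩ := h12
      have hk2 := (D.cent_sq _ hvS hv2 hvQ k (mem_inf.1 hk).1 (mem_centralizer_singleton_iff.1 (mem_inf.1 hk).2)).1
      refine D.z1 ?_
      rw [← D.sq4 (by decide : (1 : Fin 5) ≠ 2), ← hkey]
      show h * (g₀⁻¹ * k * g₀⁻¹⁻¹) * h⁻¹ * (h * (g₀⁻¹ * k * g₀⁻¹⁻¹) * h⁻¹) = 1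
      calc _ = h * g₀⁻¹ * (k * k) * g₀ * h⁻¹ := by group
        _ = 1 := by rw [hk2]; group
  -- an element normalizing `P₀`
  obtain ⟨y, hyW, hyn, hyP⟩ : ∃ y ∈ W, (∀ x ∈ P₀, y * x * y⁻¹ ∈ P₀) ∧ y ∉ P₀ := by
    haveI : Group.IsNilpotent W := hWp.isNilpotent
    have hlt' : P₀.subgroupOf W < ⊤ := lt_top_iff_ne_top.2 fun e => by
      rw [subgroupOf_eq_top] at e
      exact hlt.not_ge e
    obtain ⟨w, hw, hw'⟩ := SetLike.exists_of_lt (Group.normalizerCondition_of_isNilpotent (G := W) _ hlt')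
    refine ⟨w, w.2, fun x hx => ?_, fun h => hw' (mem_subgroupOf.2 h)⟩
    have := (mem_normalizer_iff.1 hw ⟨x, hPW hx⟩).1 (mem_subgroupOf.2 hx)
    exact mem_subgroupOf.1 this
  have hyz : y * z = z * y := by
    have hx := hyn _ h12
    set x := y * (D.a 1 * D.a 2) * y⁻¹ with hxd
    have e : x * x = y * z * y⁻¹ := by
      rw [hxd, show y * (D.a 1 * D.a 2) * y⁻¹ * (y * (D.a 1 * D.a 2) * y⁻¹) =
        y * (D.a 1 * D.a 2 * (D.a 1 * D.a 2)) * y⁻¹ by group, D.sq4 (by decide : (1 : Fin 5) ≠ 2)]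
    rcases D.cover x (mem_inf.1 hx).1 with e' | ⟨i, e'⟩ | ⟨i, j, hij, e'⟩
    · rw [D.eqz_sq (by rw [mul_one, one_mul]) e', mul_one] at e
      exact absurd (conj_eq_one_iff.1 e.symm) D.z1
    · rw [D.eqz_sq (D.zQc (D.mem i)) e', D.sq] at e
      exact absurd (conj_eq_one_iff.1 e.symm) D.z1
    · rw [D.eqz_sq (D.zQc (mul_mem (D.mem i) (D.mem j))) e', D.sq4 hij] at e
      exact mul_inv_eq_iff_eq_mul.1 e.symm
  set V := P₀ ⊔ zpowers y with hV
  have hVW : V ≤ W := sup_le hPW (zpowers_le.2 hyW)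
  have hVC : V ≤ centralizer ({z} : Set G) :=
    sup_le (hP₀S.trans D.S_le_C) (zpowers_le.2 (mem_centralizer_singleton_iff.2 hyz))
  have hV16 : 16 < Nat.card V := by
    rw [← D.card_CQ 0, ← hu, ← hP₀]
    by_contra hle
    have := Subgroup.eq_of_le_of_card_ge (le_sup_left : P₀ ≤ V) (not_lt.1 hle)
    exact hyP (this ▸ mem_sup_right (mem_zpowers y))
  obtain ⟨g, hg, hgV⟩ := conj_into S.isPGroup' D.S_le_C (fun U hU _ => card_le_sylow S hU)
    (hWp.to_le hVW) hVC
  have hgz := mem_centralizer_singleton_iff.1 hg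
  have huV : u ∈ V := mem_sup_left (mem_inf.2 ⟨D.mem 0, mem_centralizer_singleton_iff.2 rfl⟩)
  refine ⟨g, hgz, ?_, fun x hx => hgV x (mem_sup_left hx)⟩
  have hu2 : g * u * g⁻¹ * (g * u * g⁻¹) = 1 := by
    rw [show g * u * g⁻¹ * (g * u * g⁻¹) = g * (u * u) * g⁻¹ by group, hu, D.sq, mul_one, mul_inv_cancel]
  have hbig : 16 < Nat.card ((S : Subgroup G) ⊓ centralizer ({g * u * g⁻¹} : Set G) : Subgroup G) := by
    refine hV16.trans_le ?_
    rw [Nat.card_congr (V.equivMapOfInjective (MulAut.conj g).toMonoidHom (MulAut.conj g).injective).toEquiv]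
    refine Subgroup.card_le_of_le ?_
    rintro _ ⟨x, hx, rfl⟩
    refine mem_inf.2 ⟨hgV x hx, mem_centralizer_singleton_iff.2 ?_⟩
    have := mem_centralizer_singleton_iff.1 (hWu (hVW hx))
    show g * x * g⁻¹ * (g * u * g⁻¹) = g * u * g⁻¹ * (g * x * g⁻¹)
    calc g * x * g⁻¹ * (g * u * g⁻¹) = g * (x * u) * g⁻¹ := by group
      _ = g * (u * x) * g⁻¹ := by rw [this]
      _ = _ := by group
  by_cases hQ : g * u * g⁻¹ ∈ D.Q
  · rcases D.invol_Q hQ hu2 with e | ⟨i, e⟩
    · exfalso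
      have hzz' : g * z * g⁻¹ = z := by rw [hgz, mul_inv_cancel_right]
      rcases e with e | e
      · exact D.ne_one 0 (conj_eq_one_iff.1 e)
      · rw [one_mul, ← hzz'] at e
        exact D.ne_z 0 (mul_left_cancel (mul_right_cancel e))
    · rcases eq_or_ne i 4 with rfl | hi
      · exact e
      · rw [D.card_CS hi e] at hbig
        omega
  · rw [D.cent_card _ (hgV u huV) hu2 hQ] at hbig
    omega

/-- An element normalizing `Q` which moves the first pair to the last. -/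
theorem exists_normalizing (h2 : ∀ H : Subgroup G, H.Normal → H.index ≠ 2) :
    ∃ n : G, n * z = z * n ∧ (∀ q ∈ D.Q, n * q * n⁻¹ ∈ D.Q) ∧ Eqz z (n * D.a 0 * n⁻¹) (D.a 4) := by
  classical
  obtain ⟨g, hgz, hg4, hgS⟩ := D.exists_move h2
  set P₀ := D.Q ⊓ centralizer ({D.a 0} : Set G) with hP₀
  set P₄ := D.Q ⊓ centralizer ({D.a 4} : Set G) with hP₄
  have hsqz : ∀ {x : G}, x * x = z → g * x * g⁻¹ * (g * x * g⁻¹) = z := fun {x} hx => by
    rw [show g * x * g⁻¹ * (g * x * g⁻¹) = g * (x * x) * g⁻¹ by group, hx, hgz, mul_inv_cancel_right]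
  have hgz' : g * z * g⁻¹ = z := by rw [hgz, mul_inv_cancel_right]
  have hgQ : ∀ x ∈ P₀, g * x * g⁻¹ ∈ D.Q := by
    intro x hx
    rcases D.cover x (mem_inf.1 hx).1 with e | ⟨i, e⟩ | ⟨i, j, hij, e⟩
    · refine D.eqz_mem D.Q.one_mem ?_
      have := D.eqz_conj hgz e
      rwa [mul_one, mul_inv_cancel] at this
    · obtain rfl : i = 0 := by
        by_contra hi
        have h1 := mem_centralizer_singleton_iff.1 (mem_inf.1 hx).2
        have h0z : D.a 0 * z = z * D.a 0 := D.zQc (D.mem 0)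
        have h' := (D.eqz_comm h0z e).1 h1.symm
        rw [D.nc 0 i (Ne.symm hi)] at h'
        exact D.z1 (mul_eq_left.1 h')
      exact D.eqz_mem (D.mem 4) (D.trans (D.eqz_conj hgz e) hg4)
    · exact D.root _ (hgS x hx) (hsqz ((D.eqz_sq (D.zQc (mul_mem (D.mem i) (D.mem j))) e).trans (D.sq4 hij)))
  have hmap : P₀.map (MulAut.conj g).toMonoidHom = P₄ := by
    refine Subgroup.eq_of_le_of_card_ge ?_ ?_
    · rintro _ ⟨x, hx, rfl⟩
      refine mem_inf.2 ⟨hgQ x hx, mem_centralizer_singleton_iff.2 ?_⟩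
      have h1 := mem_centralizer_singleton_iff.1 (mem_inf.1 hx).2
      show g * x * g⁻¹ * D.a 4 = D.a 4 * (g * x * g⁻¹)
      refine (D.eqz_comm (D.zQc (hgQ x hx)) hg4).1 ?_
      calc g * x * g⁻¹ * (g * D.a 0 * g⁻¹) = g * (x * D.a 0) * g⁻¹ := by group
        _ = g * (D.a 0 * x) * g⁻¹ := by rw [h1]
        _ = _ := by group
    · rw [hP₄, D.card_CQ 4, ← Nat.card_congr (P₀.equivMapOfInjective _ (MulAut.conj g).injective).toEquiv,
        hP₀, D.card_CQ 0]
  -- the normalizer of `P₄` in `C(z)`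
  set N := centralizer ({z} : Set G) ⊓ normalizer (P₄ : Set G) with hN
  have hnorm : ∀ s : G, (∀ x ∈ P₄, s * x * s⁻¹ ∈ P₄) → s ∈ normalizer (P₄ : Set G) := by
    intro s hs
    rw [mem_normalizer_iff_map_conj_eq]
    refine Subgroup.eq_of_le_of_card_ge ?_ (le_of_eq
      (Nat.card_congr (P₄.equivMapOfInjective _ (MulAut.conj s).injective).toEquiv))
    rintro _ ⟨x, hx, rfl⟩
    exact hs x hx
  have hSN : (S : Subgroup G) ≤ N := fun s hs => mem_inf.2 ⟨D.S_le_C hs, hnorm s fun x hx => by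
    have h1 := mem_centralizer_singleton_iff.1 (mem_inf.1 hx).2
    refine mem_inf.2 ⟨D.norm s hs x (mem_inf.1 hx).1, mem_centralizer_singleton_iff.2 ?_⟩
    refine (D.eqz_comm (D.zQc (D.norm s hs x (mem_inf.1 hx).1)) (D.fix_four hs)).1 ?_
    calc s * x * s⁻¹ * (s * D.a 4 * s⁻¹) = s * (x * D.a 4) * s⁻¹ := by group
      _ = s * (D.a 4 * x) * s⁻¹ := by rw [h1]
      _ = _ := by group⟩
  have hQN : D.Q.map (MulAut.conj g).toMonoidHom ≤ N := by
    rintro _ ⟨q, hq, rfl⟩
    have hgqz : g * q * g⁻¹ * z = z * (g * q * g⁻¹) :=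
      (((show Commute g z from hgz).mul_left (D.zQc hq)).mul_left (show Commute g z from hgz).inv_left).eq
    refine mem_inf.2 ⟨mem_centralizer_singleton_iff.2 hgqz, hnorm _ ?_⟩
    rw [← hmap]
    rintro _ ⟨x, hx, rfl⟩
    refine ⟨q * x * q⁻¹, ?_, ?_⟩
    · refine mem_inf.2 ⟨mul_mem (mul_mem hq (mem_inf.1 hx).1) (inv_mem hq), mem_centralizer_singleton_iff.2 ?_⟩
      have h1 := mem_centralizer_singleton_iff.1 (mem_inf.1 hx).2
      rcases D.comm q hq x (mem_inf.1 hx).1 with e | e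
      · rw [e, mul_inv_cancel_right, h1]
      · have hqi : z * q⁻¹ = q⁻¹ * z := (D.zQc (inv_mem hq)).symm
        rw [e, mul_assoc (x * q) z, hqi, ← mul_assoc, mul_inv_cancel_right]
        exact ((show Commute x (D.a 0) from h1).mul_left (D.zQc (D.mem 0)).symm).eq
    · show g * (q * x * q⁻¹) * g⁻¹ = g * q * g⁻¹ * (g * x * g⁻¹) * (g * q * g⁻¹)⁻¹
      group
  obtain ⟨h, hh, hhS⟩ := conj_into S.isPGroup' hSN (fun U hU _ => card_le_sylow S hU)
    ((D.isPGroup_Q).map _) hQN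
  have hhz := mem_centralizer_singleton_iff.1 (mem_inf.1 hh).1
  have hnz : h * g * z = z * (h * g) := ((show Commute h z from hhz).mul_left hgz).eq
  have hroot : ∀ i j, i ≠ j → h * g * (D.a i * D.a j) * (h * g)⁻¹ ∈ D.Q := by
    intro i j hij
    refine D.root _ ?_ ?_
    · rw [show h * g * (D.a i * D.a j) * (h * g)⁻¹ = h * (g * (D.a i * D.a j) * g⁻¹) * h⁻¹ by group]
      exact hhS _ ⟨_, mul_mem (D.mem i) (D.mem j), rfl⟩
    · rw [show h * g * (D.a i * D.a j) * (h * g)⁻¹ * (h * g * (D.a i * D.a j) * (h * g)⁻¹) =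
        h * g * (D.a i * D.a j * (D.a i * D.a j)) * (h * g)⁻¹ by group, D.sq4 hij, hnz, mul_inv_cancel_right]
  have ha : ∀ i, h * g * D.a i * (h * g)⁻¹ ∈ D.Q := by
    intro i
    obtain ⟨b, c, d, e, hb, hc, hd, he, hbc, hbd, hbe, hcd, hce, hde⟩ := exists_others i
    refine D.eqz_mem ?_ (D.eqz_conj hnz (D.five_rel hb hc hd he hbc hbd hbe hcd hce hde))
    rw [show h * g * (D.a b * D.a c * (D.a d * D.a e)) * (h * g)⁻¹ =
      h * g * (D.a b * D.a c) * (h * g)⁻¹ * (h * g * (D.a d * D.a e) * (h * g)⁻¹) by group]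
    exact mul_mem (hroot b c hbc) (hroot d e hde)
  refine ⟨h * g, hnz, fun q hq => ?_, ?_⟩
  · rcases D.cover q hq with e | ⟨i, e⟩ | ⟨i, j, hij, e⟩
    · refine D.eqz_mem D.Q.one_mem ?_
      have := D.eqz_conj hnz e
      rwa [mul_one, mul_inv_cancel] at this
    · exact D.eqz_mem (ha i) (D.eqz_conj hnz e)
    · exact D.eqz_mem (hroot i j hij) (D.eqz_conj hnz e)
  · have h4 : D.a 4 ∈ P₄ := mem_inf.2 ⟨D.mem 4, mem_centralizer_singleton_iff.2 rfl⟩
    obtain ⟨hw, hwc⟩ := mem_inf.1 ((mem_normalizer_iff.1 (mem_inf.1 hh).2 _).1 h4)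
    have hw2 : h * D.a 4 * h⁻¹ * (h * D.a 4 * h⁻¹) = 1 := by
      rw [show h * D.a 4 * h⁻¹ * (h * D.a 4 * h⁻¹) = h * (D.a 4 * D.a 4) * h⁻¹ by group, D.sq, mul_one,
        mul_inv_cancel]
    rw [show h * g * D.a 0 * (h * g)⁻¹ = h * (g * D.a 0 * g⁻¹) * h⁻¹ by group]
    refine D.trans (D.eqz_conj hhz hg4) ?_
    rcases D.invol_Q hw hw2 with e | ⟨i, e⟩
    · exfalso
      rcases e with e | e
      · exact D.ne_one 4 (conj_eq_one_iff.1 e)
      · rw [one_mul] at e
        exact D.ne_z 4 (mul_left_cancel (mul_right_cancel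
          (e.trans (by rw [hhz, mul_inv_cancel_right] : z = h * z * h⁻¹))))
    · obtain rfl : i = 4 := by
        by_contra hi
        have h4z : D.a 4 * z = z * D.a 4 := D.zQc (D.mem 4)
        have h' := (D.eqz_comm h4z e).1 (mem_centralizer_singleton_iff.1 hwc).symm
        rw [D.nc 4 i (Ne.symm hi)] at h'
        exact D.z1 (mul_eq_left.1 h')
      exact e

end Data

end CfsgLib.J2Type
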