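import Cfsg.Agent.J2Type.Fusion

/-!
# The normalizer of `Q` in `C(z)` induces the alternating group on the pairs
-/

set_option autoImplicit false
set_option linter.style.haveILetI false
set_option linter.unusedSectionVars false
set_option maxRecDepth 100000
set_option synthInstance.maxSize 2000
set_option synthInstance.maxHeartbeats 200000

namespace CfsgLib.J2Type

open CfsgLib.HallJanko Subgroup
open CfsgLib.A8Three (kl kl_spec kl_inj)
open Equiv (Perm)

/-- A subgroup of index three does not exist in `A₅`. -/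
theorem index_ne_three (J : Subgroup (alternatingGroup (Fin 5))) : J.index ≠ 3 := by
  intro h
  haveI : IsSimpleGroup (alternatingGroup (Fin 5)) := alternatingGroup.isSimpleGroup (by simp)
  have hc : Nat.card (alternatingGroup (Fin 5) ⧸ J) = 3 := h
  set f := MulAction.toPermHom (alternatingGroup (Fin 5)) (alternatingGroup (Fin 5) ⧸ J) with hf
  rcases IsSimpleGroup.eq_bot_or_eq_top_of_normal f.ker inferInstance with e | e
  · have := Nat.card_le_card_of_injective f ((MonoidHom.ker_eq_bot_iff f).1 e)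
    rw [Nat.card_perm, hc, nat_card_alternatingGroup, Nat.card_fin] at this
    norm_num [Nat.factorial] at this
  · have hJ : ∀ g, g ∈ J := fun g => by
      have h' := congrArg (fun p : Perm (alternatingGroup (Fin 5) ⧸ J) => p ((1 : alternatingGroup (Fin 5)) : _ ⧸ J))
        (MonoidHom.mem_ker.1 (e ▸ mem_top g : g ∈ f.ker))
      simp only [hf, MulAction.toPermHom_apply, Equiv.Perm.one_apply, MulAction.toPerm_apply,
        MulAction.Quotient.smul_coe, smul_eq_mul, mul_one, QuotientGroup.eq] at h'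
      simpa using h'
    rw [(eq_top_iff' J).2 hJ, index_top] at h
    omega

/-- A group of permutations of five points containing the four group and transitive, of order not
divisible by eight, is the alternating group. -/
theorem eq_alternating (I : Subgroup (Perm (Fin 5))) (hkl : ∀ i, kl i ∈ I)
    (htrans : ∀ j, ∃ σ ∈ I, σ 4 = j) (h8 : ¬ 8 ∣ Nat.card I) : I = alternatingGroup (Fin 5) := by
  classical
  haveI : Fact (Nat.Prime 5) := ⟨by norm_num⟩
  set J := I.subgroupOf (alternatingGroup (Fin 5)) with hJ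
  have hV : klGroup ≤ J := by
    rintro _ ⟨i, rfl⟩
    exact mem_subgroupOf.2 (hkl i)
  have h4 : 4 ∣ Nat.card J := card_klGroup ▸ Subgroup.card_dvd_of_le hV
  have hdvdJ : Nat.card J ∣ Nat.card I := by
    have e : (I ⊓ alternatingGroup (Fin 5)).subgroupOf (alternatingGroup (Fin 5)) = J := inf_subgroupOf_right _ _
    rw [← e, Nat.card_congr (subgroupOfEquivOfLe inf_le_right).toEquiv]
    exact Subgroup.card_dvd_of_le inf_le_left
  have h5I : 5 ∣ Nat.card I := by
    have e : MulAction.orbit I (4 : Fin 5) = Set.univ := Set.eq_univ_of_forall fun j => by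
      obtain ⟨σ, hσ, hj⟩ := htrans j
      exact ⟨⟨σ, hσ⟩, hj⟩
    have h := MulAction.card_orbit_mul_card_stabilizer_eq_card_group I (4 : Fin 5)
    rw [e] at h
    simp only [← Nat.card_eq_fintype_card, Nat.card_coe_set_eq, Set.ncard_univ, Nat.card_fin] at h
    exact ⟨_, h.symm⟩
  have h5 : 5 ∣ Nat.card J := by
    obtain ⟨σ, hσ⟩ := exists_prime_orderOf_dvd_card' 5 h5I
    have hσA : (σ : Perm (Fin 5)) ∈ alternatingGroup (Fin 5) := by
      rw [Equiv.Perm.mem_alternatingGroup]
      rcases Int.units_eq_one_or (Perm.sign (σ : Perm (Fin 5))) with h | h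
      · exact h
      · exfalso
        have hp : σ ^ 5 = 1 := orderOf_dvd_iff_pow_eq_one.1 (dvd_of_eq hσ)
        have h' : Perm.sign ((σ : Perm (Fin 5)) ^ 5) = 1 := by
          rw [← Subgroup.coe_pow, hp, OneMemClass.coe_one, map_one]
        rw [map_pow, h] at h'
        exact absurd h' (by decide)
    have : orderOf (⟨⟨σ, hσA⟩, mem_subgroupOf.2 σ.2⟩ : J) = 5 := by
      rw [Subgroup.orderOf_mk, Subgroup.orderOf_mk, Subgroup.orderOf_coe, hσ]
    exact (dvd_of_eq this.symm).trans (_root_.orderOf_dvd_natCard _)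
  have hJtop : J = ⊤ := by
    have h20 : 20 ∣ Nat.card J := Nat.Coprime.mul_dvd_of_dvd_of_dvd (by norm_num : Nat.Coprime 4 5) h4 h5
    have hm := J.card_mul_index
    rw [nat_card_alternatingGroup, Nat.card_fin] at hm
    obtain ⟨c, hc⟩ := h20
    rw [hc, mul_assoc] at hm
    norm_num [Nat.factorial] at hm
    have hdvd : J.index ∣ 3 := ⟨c, by rw [mul_comm]; omega⟩
    rcases (Nat.dvd_prime Nat.prime_three).1 hdvd with h | h
    · exact index_eq_one.1 h
    · exact absurd h (index_ne_three J)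
  have hle : alternatingGroup (Fin 5) ≤ I := by
    rw [← subgroupOf_eq_top]
    exact hJtop
  refine le_antisymm ?_ hle
  intro σ hσ
  by_contra hA
  rw [Equiv.Perm.mem_alternatingGroup] at hA
  have hIdx : I = ⊤ := (eq_top_iff' I).2 fun τ => by
    rcases Int.units_eq_one_or (Perm.sign τ) with h | h
    · exact hle (Equiv.Perm.mem_alternatingGroup.2 h)
    · have : τ * σ ∈ alternatingGroup (Fin 5) := by
        rw [Equiv.Perm.mem_alternatingGroup, map_mul, h, (Int.units_eq_one_or _).resolve_left hA]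
        rfl
      simpa using mul_mem (hle this) (inv_mem hσ)
  refine h8 ?_
  rw [hIdx, card_top, Nat.card_perm, Nat.card_fin]
  norm_num [Nat.factorial]

variable {G : Type*} [Group G] [Finite G] {z : G} {S : Sylow 2 G}

/-- The action of the normalizer on the pairs. -/
structure Perms (D : Data z (S : Subgroup G)) where
  p : G → Perm (Fin 5)
  p_mul : ∀ m ∈ centralizer ({z} : Set G) ⊓ normalizer (D.Q : Set G),
    ∀ n ∈ centralizer ({z} : Set G) ⊓ normalizer (D.Q : Set G), p (m * n) = p m * p n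
  act : ∀ n ∈ centralizer ({z} : Set G) ⊓ normalizer (D.Q : Set G), ∀ i,
    Eqz z (n * D.a i * n⁻¹) (D.a (p n i))
  even : ∀ n ∈ centralizer ({z} : Set G) ⊓ normalizer (D.Q : Set G), Perm.sign (p n) = 1
  surj : ∀ π, Perm.sign π = 1 → ∃ n ∈ centralizer ({z} : Set G) ⊓ normalizer (D.Q : Set G), p n = π
  cent_two : ∀ n ∈ centralizer ({z} : Set G) ⊓ normalizer (D.Q : Set G), p n = 1 →
    ∀ k : ℕ, n ^ 2 ^ k = 1 → n ∈ D.Q

theorem Data.S_le_N (D : Data z (S : Subgroup G)) :
    (S : Subgroup G) ≤ centralizer ({z} : Set G) ⊓ normalizer (D.Q : Set G) := fun s hs => by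
  refine mem_inf.2 ⟨D.S_le_C hs, ?_⟩
  rw [mem_normalizer_iff_map_conj_eq]
  refine Subgroup.eq_of_le_of_card_ge ?_ (le_of_eq
    (Nat.card_congr (D.Q.equivMapOfInjective _ (MulAut.conj s).injective).toEquiv))
  rintro _ ⟨x, hx, rfl⟩
  exact D.norm s hs x hx

theorem exists_perms (D : Data z (S : Subgroup G)) (h2 : ∀ H : Subgroup G, H.Normal → H.index ≠ 2) :
    Nonempty (Perms D) := by
  classical
  haveI : Fact (Nat.Prime 2) := ⟨Nat.prime_two⟩
  set N := centralizer ({z} : Set G) ⊓ normalizer (D.Q : Set G) with hN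
  have hNz : ∀ n : N, (n : G) * z = z * n := fun n => mem_centralizer_singleton_iff.1 (mem_inf.1 n.2).1
  have hex : ∀ (n : N) i, ∃ j, Eqz z ((n : G) * D.a i * (n : G)⁻¹) (D.a j) := by
    intro n i
    have hmem : (n : G) * D.a i * (n : G)⁻¹ ∈ D.Q := (mem_normalizer_iff.1 (mem_inf.1 n.2).2 _).1 (D.mem i)
    rcases D.invol_Q hmem (by
      rw [show (n : G) * D.a i * (n : G)⁻¹ * ((n : G) * D.a i * (n : G)⁻¹) =
        (n : G) * (D.a i * D.a i) * (n : G)⁻¹ by group, D.sq, mul_one, mul_inv_cancel]) with e | e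
    · exfalso
      rcases e with e | e
      · exact D.ne_one i (conj_eq_one_iff.1 e)
      · rw [one_mul] at e
        exact D.ne_z i (mul_left_cancel (mul_right_cancel
          (e.trans (by rw [hNz, mul_inv_cancel_right] : z = (n : G) * z * (n : G)⁻¹))))
    · exact e
  choose act hact using hex
  have heq : ∀ (n : N) i j, Eqz z ((n : G) * D.a i * (n : G)⁻¹) (D.a j) → act n i = j :=
    fun n i j e => D.dist _ _ (D.trans (D.symm (hact n i)) e)
  have hone : ∀ i, act 1 i = i := fun i => heq 1 i i (Or.inl (by simp))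
  have hmul : ∀ (m n : N) i, act (m * n) i = act m (act n i) := fun m n i => by
    refine heq _ i _ (D.trans ?_ (hact m _))
    rw [Subgroup.coe_mul, show (m : G) * (n : G) * D.a i * ((m : G) * (n : G))⁻¹ =
      (m : G) * ((n : G) * D.a i * (n : G)⁻¹) * (m : G)⁻¹ by group]
    exact D.eqz_conj (hNz m) (hact n i)
  let ψ : N →* Perm (Fin 5) := MonoidHom.mk' (fun c => ⟨act c, act c⁻¹,
    fun i => by rw [← hmul, inv_mul_cancel, hone], fun i => by rw [← hmul, mul_inv_cancel, hone]⟩)
    fun c d => Equiv.ext (hmul c d)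
  have hψ : ∀ (n : N) i, ψ n i = act n i := fun _ _ => rfl
  have hψS : ∀ i, ∃ s : N, (s : G) ∈ (S : Subgroup G) ∧ ψ s = kl i := fun i => by
    obtain ⟨s, hs, h⟩ := D.image i
    exact ⟨⟨s, D.S_le_N hs⟩, hs, Equiv.ext fun j => heq _ j _ (h j)⟩
  have hI : ψ.range = alternatingGroup (Fin 5) := by
    refine eq_alternating _ (fun i => ?_) (fun j => ?_) ?_
    · obtain ⟨s, -, hs⟩ := hψS i
      exact ⟨s, hs⟩
    · obtain ⟨n, hnz, hnQ, hn⟩ := D.exists_normalizing h2
      have hnN : n ∈ N := by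
        refine mem_inf.2 ⟨mem_centralizer_singleton_iff.2 hnz, ?_⟩
        rw [mem_normalizer_iff_map_conj_eq]
        refine Subgroup.eq_of_le_of_card_ge ?_ (le_of_eq
          (Nat.card_congr (D.Q.equivMapOfInjective _ (MulAut.conj n).injective).toEquiv))
        rintro _ ⟨x, hx, rfl⟩
        exact hnQ x hx
      have h04 : ψ ⟨n, hnN⟩⁻¹ 4 = 0 := by
        rw [map_inv, Equiv.Perm.inv_eq_iff_eq, hψ]
        exact (heq ⟨n, hnN⟩ 0 4 hn).symm
      rcases eq_or_ne j 4 with rfl | hj
      · exact ⟨1, one_mem _, rfl⟩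
      · obtain ⟨i, hi⟩ := kl_orbit j hj
        obtain ⟨s, -, hs⟩ := hψS i
        exact ⟨ψ (s * ⟨n, hnN⟩⁻¹), ⟨_, rfl⟩, by rw [map_mul, Equiv.Perm.mul_apply, h04, hs, hi]⟩
    · intro h8
      have hker : Nat.card D.Q ∣ Nat.card ψ.ker := by
        rw [← Nat.card_congr (subgroupOfEquivOfLe ((D.Q_le.trans D.S_le_N))).toEquiv]
        refine Subgroup.card_dvd_of_le fun q hq => MonoidHom.mem_ker.2 (Equiv.ext fun i => ?_)
        refine heq q i i ?_
        rcases D.comm q (mem_subgroupOf.1 hq) (D.a i) (D.mem i) with e | e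
        · exact Or.inl (by rw [e, mul_inv_cancel_right])
        · refine Or.inr ?_
          rw [e, mul_assoc (D.a i * q) z, ← D.zi (D.Q_le (mem_subgroupOf.1 hq)), ← mul_assoc,
            mul_inv_cancel_right]
      rw [D.cardQ] at hker
      have h256 : 2 * Nat.card (S : Subgroup G) ∣ Nat.card G := by
        rw [D.cardS]
        refine dvd_trans ?_ (Subgroup.card_subgroup_dvd_card N)
        rw [← ψ.ker.card_mul_index, index_ker]
        exact dvd_trans (by norm_num) (Nat.mul_dvd_mul hker h8)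
      rw [← (S : Subgroup G).card_mul_index, mul_comm 2] at h256
      exact S.not_dvd_index ((Nat.mul_dvd_mul_iff_left Nat.card_pos).1 h256)
  refine ⟨{
    p := fun g => if h : g ∈ N then ψ ⟨g, h⟩ else 1
    p_mul := fun m hm n hn => by
      rw [dif_pos hm, dif_pos hn, dif_pos (mul_mem hm hn)]
      exact map_mul ψ ⟨m, hm⟩ ⟨n, hn⟩
    act := fun n hn i => by
      rw [dif_pos hn]
      exact hact ⟨n, hn⟩ i
    even := fun n hn => by
      rw [dif_pos hn]
      exact Equiv.Perm.mem_alternatingGroup.1 (hI ▸ ⟨_, rfl⟩)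
    surj := fun π hπ => by
      obtain ⟨n, hn⟩ : π ∈ ψ.range := hI ▸ Equiv.Perm.mem_alternatingGroup.2 hπ
      exact ⟨n, n.2, by rw [dif_pos n.2]; exact hn⟩
    cent_two := ?_ }⟩
  intro n hn hp k hk
  rw [dif_pos hn] at hp
  have hzp : IsPGroup 2 (zpowers n) := by
    obtain ⟨m, -, hm⟩ := (Nat.dvd_prime_pow Nat.prime_two).1 (orderOf_dvd_of_pow_eq_one hk)
    exact IsPGroup.of_card (n := m) (by rw [Nat.card_zpowers, hm])
  have hR : IsPGroup 2 (D.Q ⊔ zpowers n : Subgroup G) :=
    D.isPGroup_Q.to_sup_of_normal_left' hzp (zpowers_le.2 (mem_inf.1 hn).2)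
  obtain ⟨h, hh, hhS⟩ := conj_into S.isPGroup' D.S_le_N (fun U hU _ => card_le_sylow S hU) hR
    (sup_le (D.Q_le.trans D.S_le_N) (zpowers_le.2 hn))
  have hs := hhS n (mem_sup_right (mem_zpowers n))
  have hQ : h * n * h⁻¹ ∈ D.Q := by
    refine D.ker _ hs fun j => ?_
    have h1 : ψ (⟨h, hh⟩ * ⟨n, hn⟩ * ⟨h, hh⟩⁻¹) = 1 := by
      rw [map_mul, map_mul, hp, mul_one, map_inv, mul_inv_cancel]
    have := hact (⟨h, hh⟩ * ⟨n, hn⟩ * ⟨h, hh⟩⁻¹) j
    rw [← hψ, h1, Equiv.Perm.one_apply] at this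
    exact this
  exact (mem_normalizer_iff.1 (mem_inf.1 hh).2 n).2 hQ

end CfsgLib.J2Type
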