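import Cfsg.Agent.J2Type.CBar

/-!
# `C(z)` modulo its odd core has the structure of the centralizer in `J₂`
-/

set_option autoImplicit false
set_option linter.style.haveILetI false
set_option linter.unusedSectionVars false
set_option maxRecDepth 100000

namespace CfsgLib.J2Type

open CfsgLib.HallJanko Subgroup
open CfsgLib.A8Three (kl kl_spec)
open Equiv (Perm)

section abstract

variable {X : Type*} [Group X] [Finite X] {zX : X}

theorem preCore_of_normal {SX : Sylow 2 X} (R : Subgroup X) (hR : R = (SX : Subgroup X)) (DX : Data zX R)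
    (hzc : ∀ x : X, x * zX = zX * x) (hO : Cfsg.oddCore X = ⊥) (hn : DX.Q.Normal)
    (hsurj : ∀ π, Perm.sign π = 1 → ∃ x : X, ∀ i, Eqz zX (x * DX.a i * x⁻¹) (DX.a (π i))) :
    PreCore zX DX.Q ∧ ∃ t : X, t * t = 1 ∧ t ∉ DX.Q := by
  subst hR
  classical
  haveI : Fact (Nat.Prime 2) := ⟨Nat.prime_two⟩
  haveI := hn
  have hex : ∀ (x : X) i, ∃ j, Eqz zX (x * DX.a i * x⁻¹) (DX.a j) := by
    intro x i
    rcases DX.invol_Q (hn.conj_mem _ (DX.mem i) x) (by
      rw [show x * DX.a i * x⁻¹ * (x * DX.a i * x⁻¹) = x * (DX.a i * DX.a i) * x⁻¹ by group, DX.sq, mul_one,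
        mul_inv_cancel]) with e | e
    · exfalso
      rcases e with e | e
      · exact DX.ne_one i (conj_eq_one_iff.1 e)
      · rw [one_mul] at e
        exact DX.ne_z i (mul_left_cancel (mul_right_cancel
          (e.trans (by rw [hzc, mul_inv_cancel_right] : zX = x * zX * x⁻¹))))
    · exact e
  choose act hact using hex
  have heq : ∀ (x : X) i j, Eqz zX (x * DX.a i * x⁻¹) (DX.a j) → act x i = j :=
    fun x i j e => DX.dist _ _ (DX.trans (DX.symm (hact x i)) e)
  have hone : ∀ i, act 1 i = i := fun i => heq 1 i i (Or.inl (by simp))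
  have hmul : ∀ (m n : X) i, act (m * n) i = act m (act n i) := fun m n i => by
    refine heq _ i _ (DX.trans ?_ (hact m _))
    rw [show m * n * DX.a i * (m * n)⁻¹ = m * (n * DX.a i * n⁻¹) * m⁻¹ by group]
    exact DX.eqz_conj (hzc m) (hact n i)
  let ψ : X →* Perm (Fin 5) := MonoidHom.mk' (fun c => ⟨act c, act c⁻¹,
    fun i => by rw [← hmul, inv_mul_cancel, hone], fun i => by rw [← hmul, mul_inv_cancel, hone]⟩)
    fun c d => Equiv.ext (hmul c d)
  have hψ : ∀ (x : X) i, ψ x i = act x i := fun _ _ => rfl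
  have hsub : ∀ π, Perm.sign π = 1 → π ∈ ψ.range := fun π hπ => by
    obtain ⟨x, hx⟩ := hsurj π hπ
    exact ⟨x, Equiv.ext fun i => heq x i _ (hx i)⟩
  have hQker : DX.Q ≤ ψ.ker := fun q hq => MonoidHom.mem_ker.2 (Equiv.ext fun i => by
    refine heq q i i ?_
    rcases DX.comm q hq (DX.a i) (DX.mem i) with e | e
    · exact Or.inl (by rw [e, mul_inv_cancel_right])
    · refine Or.inr ?_
      rw [e, mul_assoc (DX.a i * q) zX, ← hzc q⁻¹, ← mul_assoc, mul_inv_cancel_right])
  have hI : ψ.range = alternatingGroup (Fin 5) := by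
    refine eq_alternating _ (fun i => hsub _ (kl_spec i).1) (fun j => ?_) ?_
    · obtain ⟨g, hg⟩ := Alt.transitive 4 j
      exact ⟨_, hsub _ (Equiv.Perm.mem_alternatingGroup.1 g.2), hg⟩
    · intro h8
      have hker : Nat.card DX.Q ∣ Nat.card ψ.ker := Subgroup.card_dvd_of_le hQker
      rw [DX.cardQ] at hker
      have h256 : 2 * Nat.card (SX : Subgroup X) ∣ Nat.card X := by
        rw [DX.cardS, ← ψ.ker.card_mul_index, index_ker]
        exact dvd_trans (by norm_num) (Nat.mul_dvd_mul hker h8)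
      rw [← (SX : Subgroup X).card_mul_index, mul_comm 2] at h256
      exact SX.not_dvd_index ((Nat.mul_dvd_mul_iff_left Nat.card_pos).1 h256)
  -- 2-elements of the kernel lie in `Q`
  have h2ker : ∀ x : X, ψ x = 1 → (∃ k : ℕ, x ^ 2 ^ k = 1) → x ∈ DX.Q := by
    rintro x hx ⟨k, hk⟩
    obtain ⟨m, -, hm⟩ := (Nat.dvd_prime_pow Nat.prime_two).1 (orderOf_dvd_of_pow_eq_one hk)
    have hzp : IsPGroup 2 (zpowers x) := IsPGroup.of_card (n := m) (by rw [Nat.card_zpowers, hm])
    have hR : IsPGroup 2 (DX.Q ⊔ zpowers x : Subgroup X) :=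
      (DX.isPGroup_Q).to_sup_of_normal_left hzp
    obtain ⟨h, -, hhS⟩ := conj_into SX.isPGroup' (le_top : (SX : Subgroup X) ≤ ⊤)
      (fun U hU _ => card_le_sylow SX hU) hR le_top
    have hQ : h * x * h⁻¹ ∈ DX.Q := by
      refine DX.ker _ (hhS x (mem_sup_right (mem_zpowers x))) fun j => ?_
      have h1 : ψ (h * x * h⁻¹) = 1 := by rw [map_mul, map_mul, hx, mul_one, map_inv, mul_inv_cancel]
      have := hact (h * x * h⁻¹) j
      rwa [← hψ, h1, Equiv.Perm.one_apply] at this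
    simpa [mul_assoc] using hn.conj_mem _ hQ h⁻¹
  -- elements of odd order of the kernel centralize `Q`
  have hoddker : ∀ x : X, ψ x = 1 → Odd (orderOf x) → ∀ q ∈ DX.Q, q * x = x * q := by
    intro x hx hodd
    have hai : ∀ i, x * DX.a i = DX.a i * x := fun i => by
      refine CfsgLib.A8Three.commute_of_odd_mul hodd (hzc x) DX.zz ?_
      have := hact x i
      rwa [← hψ, hx, Equiv.Perm.one_apply] at this
    intro q hq
    rcases DX.cover q hq with e | ⟨i, e⟩ | ⟨i, j, -, e⟩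
    · exact ((DX.eqz_comm (hzc x) e).2 (by rw [mul_one, one_mul])).symm
    · exact ((DX.eqz_comm (hzc x) e).2 (hai i)).symm
    · exact ((DX.eqz_comm (hzc x) e).2 ((show Commute x _ from hai i).mul_right (hai j)).eq).symm
  -- the centralizer of `Q`
  set CQ := centralizer (DX.Q : Set X) with hCQ
  have hCker : ∀ x ∈ CQ, ψ x = 1 := fun x hx => Equiv.ext fun i => heq x i i (Or.inl (by
    rw [← mem_centralizer_iff.1 hx _ (DX.mem i), mul_inv_cancel_right]))
  have hC2 : ∀ x ∈ CQ, (∃ k : ℕ, x ^ 2 ^ k = 1) → x ∈ zpowers zX := by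
    intro x hx hk
    rcases DX.center x (h2ker x (hCker x hx) hk) (fun p hp => (mem_centralizer_iff.1 hx p hp).symm) with e | e <;>
      rw [e]
    exacts [one_mem _, mem_zpowers _]
  have hzCQ : zX ∈ CQ := mem_centralizer_iff.2 fun q _ => hzc q
  have hz2 : IsPGroup 2 (zpowers zX) := IsPGroup.of_card (n := 1) (by
    rw [Nat.card_zpowers, pow_one]; exact orderOf_eq_prime (by rw [pow_two, DX.zz]) DX.z1)
  obtain ⟨O, hOc⟩ := CfsgLib.A8Three.exists_compl_of_abelian (C := CQ) (zpowers_le.2 hzCQ) hz2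
    (fun R hRC hR _ x hx => hC2 x (hRC hx) (by
      obtain ⟨k, hk⟩ := hR ⟨x, hx⟩
      exact ⟨k, congrArg Subtype.val hk⟩))
    (fun n _ _ s hs => by
      obtain ⟨i, rfl⟩ := mem_zpowers_iff.1 hs
      exact ((show Commute n zX from hzc n).zpow_right i).eq)
  have hObot : ∀ o ∈ O, o = 1 := by
    haveI : O.Normal := ⟨fun o ho y => hOc.mem_of_odd _ (by
        have hCn : CQ.Normal := by rw [hCQ]; infer_instance
        exact hCn.conj_mem o (hOc.le ho) y)
      (by rw [CfsgLib.Small.orderOf_conj_eq]; exact CfsgLib.A8Three.odd_orderOf_of_mem hOc.odd ho)⟩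
    intro o ho
    have := CfsgLib.PLocal.le_pPrimeCore (p := 2) (N := O) (Nat.coprime_two_right.2 hOc.odd) ho
    rw [show Cfsg.pPrimeCore 2 X = ⊥ from hO] at this
    exact mem_bot.1 this
  have hker : ∀ x, ψ x = 1 → x ∈ DX.Q := by
    intro x hx
    obtain ⟨k, m, hm, he⟩ := Nat.exists_eq_two_pow_mul_odd (orderOf_pos x).ne'
    have hodd : Odd (orderOf (x ^ 2 ^ k)) := by
      rw [orderOf_pow, Nat.gcd_eq_right (Dvd.intro m he.symm), he, Nat.mul_div_cancel_left _ (by positivity)]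
      exact hm
    have hψp : ψ (x ^ 2 ^ k) = 1 := by rw [map_pow, hx, one_pow]
    have h1 : x ^ 2 ^ k = 1 := hObot _ (hOc.mem_of_odd _
      (mem_centralizer_iff.2 (hoddker _ hψp hodd)) hodd)
    exact h2ker x hx ⟨k, h1⟩
  refine ⟨{
    hz := orderOf_eq_prime (by rw [pow_two, DX.zz]) DX.z1
    hQC := fun q _ => hzc q, hn := fun c _ q hq => hn.conj_mem q hq c, hcard := DX.cardQ, hzQ := DX.zQ
    hcenter := DX.center, hcomm := DX.comm, hsq := ?_, hCQ := ?_, hquot := ?_ }, ?_⟩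
  · intro q hq
    rcases DX.cover q hq with e | ⟨i, e⟩ | ⟨i, j, hij, e⟩
    · left; rw [DX.eqz_sq (by rw [one_mul, mul_one]) e, one_mul]
    · left; rw [DX.eqz_sq (hzc _) e, DX.sq]
    · right; rw [DX.eqz_sq (hzc _) e, DX.sq4 hij]
  · exact fun c _ hc => hker c (hCker c (mem_centralizer_iff.2 fun q hq => (hc q hq).symm))
  · let f : centralizer ({zX} : Set X) →* alternatingGroup (Fin 5) :=
      (ψ.codRestrict _ fun x => hI ▸ ⟨x, rfl⟩).comp (centralizer ({zX} : Set X)).subtype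
    refine ⟨f, fun π => ?_, fun c => ⟨fun e => hker c ?_, fun e => ?_⟩⟩
    · obtain ⟨x, hx⟩ : (π : Perm (Fin 5)) ∈ ψ.range := by rw [hI]; exact π.2
      exact ⟨⟨x, mem_centralizer_singleton_iff.2 (hzc x)⟩, Subtype.ext hx⟩
    · exact congrArg Subtype.val e
    · exact Subtype.ext (MonoidHom.mem_ker.1 (hQker e))
  · obtain ⟨v, -, hv, hvQ⟩ := DX.out
    exact ⟨v, hv, hvQ⟩

end abstract

variable {G : Type*} [Group G] [Finite G] {z : G} {S : Sylow 2 G} (D : Data z (S : Subgroup G))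

include D in
/-- The structure of `C(z)` modulo its odd core. -/
theorem Data.exists_preCore (h2 : ∀ H : Subgroup G, H.Normal → H.index ≠ 2) :
    ∃ (zX : centralizer ({z} : Set G) ⧸ Cfsg.oddCore (centralizer ({z} : Set G)))
      (QX : Subgroup (centralizer ({z} : Set G) ⧸ Cfsg.oddCore (centralizer ({z} : Set G)))),
      PreCore zX QX ∧ (∀ x, x * zX = zX * x) ∧ ∃ t, t * t = 1 ∧ t ∉ QX := by
  classical
  haveI : Fact (Nat.Prime 2) := ⟨Nat.prime_two⟩
  set O := Cfsg.oddCore (centralizer ({z} : Set G)) with hOdef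
  set q := QuotientGroup.mk' O with hq
  let φ := q.comp (Subgroup.inclusion D.S_le_C)
  have hφ : Function.Injective φ := by
    rw [← MonoidHom.ker_eq_bot_iff, eq_bot_iff]
    intro s hs
    obtain ⟨k, hk⟩ := S.isPGroup' s
    have hmem : Subgroup.inclusion D.S_le_C s ∈ O := (QuotientGroup.eq_one_iff _).1 hs
    refine mem_bot.2 (Subgroup.inclusion_injective D.S_le_C ?_)
    rw [map_one]
    refine CfsgLib.A8Three.eq_one_of_two_pow (k := k) (by rw [← map_pow, hk, map_one])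
      (CfsgLib.A8Three.odd_orderOf_of_mem ?_ hmem)
    exact CfsgLib.Inv54.odd_card_oddCore (G := centralizer ({z} : Set G))
  let SX : Sylow 2 (centralizer ({z} : Set G) ⧸ O) :=
    (S.subtype D.S_le_C).mapSurjective (QuotientGroup.mk'_surjective O)
  have hR : φ.range = (SX : Subgroup _) := by
    rw [MonoidHom.range_comp, Subgroup.inclusion_range]
    rfl
  have hzc : ∀ x, x * φ ⟨z, D.Q_le D.zQ⟩ = φ ⟨z, D.Q_le D.zQ⟩ * x := fun x => by
    obtain ⟨k, rfl⟩ := QuotientGroup.mk'_surjective _ x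
    show q k * q (zK z) = q (zK z) * q k
    rw [← map_mul, ← map_mul, zK_central]
  have hQ : (D.map φ hφ).Q = (D.Q.subgroupOf (centralizer ({z} : Set G))).map q := by
    ext y
    constructor
    · rintro ⟨s, hs, rfl⟩
      exact ⟨_, hs, rfl⟩
    · rintro ⟨k, hk, rfl⟩
      exact ⟨⟨(k : G), D.Q_le hk⟩, hk, rfl⟩
  obtain ⟨P⟩ := exists_perms D h2
  obtain ⟨h1, h2'⟩ := preCore_of_normal (SX := SX) _ hR (D.map φ hφ) hzc
    (CfsgLib.PLocal.pPrimeCore_quotient_pPrimeCore_eq_bot 2 _) (hQ ▸ D.normal_image h2) (fun π hπ => by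
      obtain ⟨n, hn, hnp⟩ := P.surj π hπ
      refine ⟨q ⟨n, (mem_inf.1 hn).1⟩, fun i => ?_⟩
      have h := P.act n hn i
      rw [hnp] at h
      have h' : Eqz (zK z) (⟨n, (mem_inf.1 hn).1⟩ * ⟨D.a i, D.S_le_C (D.Q_le (D.mem i))⟩ * (⟨n, (mem_inf.1 hn).1⟩)⁻¹)
          (⟨D.a (π i), D.S_le_C (D.Q_le (D.mem (π i)))⟩ : centralizer ({z} : Set G)) :=
        Eqz.of_map (φ := (centralizer ({z} : Set G)).subtype) Subtype.val_injective h
      have h'' := Eqz.map q h'
      rw [map_mul, map_mul, map_inv] at h''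
      exact h'')
  exact ⟨_, _, h1, hzc, h2'⟩

end CfsgLib.J2Type
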