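import Cfsg.Agent.HallJanko.Invol
import Cfsg.Agent.TwoThreeFive.Basic
import Cfsg.Agent.A8Three.Tools

/-!
# A complement `A₅` in a group of the type of the centralizer of an involution of `J₂`
-/

set_option autoImplicit false
set_option linter.style.haveILetI false
set_option linter.unusedSectionVars false
set_option maxRecDepth 100000
set_option synthInstance.maxSize 2000
set_option synthInstance.maxHeartbeats 200000

namespace CfsgLib.J2Type

open CfsgLib.HallJanko CfsgLib.TwoThreeFive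
open Equiv (Perm)

/-- One step of generation by the two permutations of the presentation. -/
def genStep (L : List (Perm (Fin 5))) : List (Perm (Fin 5)) :=
  (L ++ L.map (· * xPerm) ++ L.map (· * yPerm)).dedup

theorem gen_all : ∀ g : Perm (Fin 5), Perm.sign g = 1 → g ∈ genStep^[10] [1] := by decide +kernel

theorem closure_alt : Subgroup.closure ({xAlt, yAlt} : Set (alternatingGroup (Fin 5))) = ⊤ := by
  set K := (Subgroup.closure ({xAlt, yAlt} : Set (alternatingGroup (Fin 5)))).map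
    (alternatingGroup (Fin 5)).subtype with hK
  have key : ∀ n : ℕ, ∀ g ∈ genStep^[n] [1], g ∈ K := by
    intro n
    induction n with
    | zero => simp [one_mem]
    | succ n ih =>
      intro g hg
      rw [Function.iterate_succ_apply', genStep, List.mem_dedup, List.mem_append, List.mem_append,
        List.mem_map, List.mem_map] at hg
      rcases hg with (hg | ⟨l, hl, rfl⟩) | ⟨l, hl, rfl⟩
      · exact ih g hg
      · exact mul_mem (ih l hl) ⟨xAlt, Subgroup.subset_closure (by simp), rfl⟩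
      · exact mul_mem (ih l hl) ⟨yAlt, Subgroup.subset_closure (by simp), rfl⟩
  refine eq_top_iff.2 fun g _ => ?_
  obtain ⟨g', hg', e⟩ := key 10 g (gen_all g (Equiv.Perm.mem_alternatingGroup.1 g.2))
  rwa [← Subtype.ext e]

theorem xy_invol : (xAlt * yAlt) * (xAlt * yAlt) = 1 ∧ xAlt * yAlt ≠ 1 := by decide +kernel

theorem xAlt_three : xAlt * xAlt * xAlt = 1 ∧ xAlt ≠ 1 := by decide +kernel

theorem yAlt_five : yAlt ^ 5 = 1 ∧ yAlt ≠ 1 := by decide +kernel

theorem yAlt_apply : ∀ i : Fin 5, (yAlt : Perm (Fin 5)) i = i + 2 := by decide +kernel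

/-- Every even permutation fixing a point is a product of two elements of order at most three
fixing it. -/
theorem stab_gen : ∀ g : alternatingGroup (Fin 5), (g : Perm (Fin 5)) 4 = 4 →
    ∃ r s : alternatingGroup (Fin 5), g = r * s ∧ r * r * r = 1 ∧ s * s * s = 1 ∧
      (r : Perm (Fin 5)) 4 = 4 ∧ (s : Perm (Fin 5)) 4 = 4 := by decide +kernel

variable {X : Type*} [Group X] [Finite X] {z : X} {Q : Subgroup X}

/-- The map to the alternating group, defined on all of `X`. -/
def frameHom (F : Frame z Q) (hzc : ∀ x : X, x * z = z * x) : X →* alternatingGroup (Fin 5) :=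
  F.π.comp ((MonoidHom.id X).codRestrict _ fun x => Subgroup.mem_centralizer_singleton_iff.2 (hzc x))

section

variable (h : PreCore z Q) (hzc : ∀ x : X, x * z = z * x) (F : Frame z Q)
include h hzc

theorem frameHom_eq_p (x : X) : frameHom F hzc x = F.p (hzc x) := rfl

theorem frameHom_ker (x : X) : frameHom F hzc x = 1 ↔ x ∈ Q := F.ker _

theorem frameHom_act (x : X) (i : Fin 5) :
    Eqz z (x * F.a i * x⁻¹) (F.a ((frameHom F hzc x : Perm (Fin 5)) i)) :=
  F.act ⟨x, Subgroup.mem_centralizer_singleton_iff.2 (hzc x)⟩ i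

theorem frameHom_surj : Function.Surjective (frameHom F hzc) := fun g => by
  obtain ⟨c, hc⟩ := F.surj g
  exact ⟨c, hc⟩

theorem card_eq : Nat.card X = 1920 := by
  rw [← h.card_centralizer]
  exact (Nat.card_congr ((Subgroup.topEquiv (G := X)).symm.trans (MulEquiv.subgroupCongr
    (eq_top_iff.2 fun x _ => Subgroup.mem_centralizer_singleton_iff.2 (hzc x)).symm)).toEquiv)

/-- An element of order five of the complement. -/
theorem eq_or_eq_z_of_five {y : X} (hy : frameHom F hzc y = yAlt) :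
    y ^ 5 = 1 ∨ y ^ 5 = z := by
  obtain ⟨h5, hne⟩ := yAlt_five
  have hq : y ^ 5 ∈ Q := (frameHom_ker h hzc F _).1 (by rw [map_pow, hy, h5])
  have h4 : (y ^ 5) ^ 4 = 1 := by
    have := h.Q_sq_orderOf hq
    rw [← sq, ← sq] at this
    rw [show (4 : ℕ) = 2 * 2 from rfl, pow_mul]
    exact this
  haveI : Fact (Nat.Prime 5) := ⟨by norm_num⟩
  have hg5 : orderOf (y ^ 16) = 5 := by
    refine orderOf_eq_prime (by rw [← pow_mul, show 16 * 5 = 5 * 4 * 4 from rfl, pow_mul, pow_mul, h4, one_pow]) ?_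
    intro e
    have e' := congrArg (frameHom F hzc) e
    rw [map_pow, hy, map_one, show (16 : ℕ) = 5 * 3 + 1 from rfl, pow_succ, pow_mul, h5, one_pow, one_mul] at e'
    exact hne e'
  refine h.fixed_five (hzc _) hg5 hq ?_
  rw [(Commute.pow_pow_self y 16 5).eq, mul_inv_cancel_right]

/-- Generators of a complement. -/
theorem exists_gens (hout : ∃ t : X, t * t = 1 ∧ t ∉ Q) : ∃ x y : X, x ^ 3 = 1 ∧ y ^ 5 = 1 ∧
    (x * y) ^ 2 = 1 ∧ frameHom F hzc x = xAlt ∧ frameHom F hzc y = yAlt := by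
  obtain ⟨t₀, ht₀, ht₀Q⟩ := hout
  obtain ⟨x, hx3, hxp⟩ : ∃ x : X, x * x * x = 1 ∧ frameHom F hzc x = xAlt := by
    obtain ⟨c, hc⟩ := frameHom_surj h hzc F xAlt
    have hc3 : c * c * c ∈ Q := (frameHom_ker h hzc F _).1 (by rw [map_mul, map_mul, hc, xAlt_three.1])
    refine ⟨c * c * (c * c), ?_, ?_⟩
    · calc c * c * (c * c) * (c * c * (c * c)) * (c * c * (c * c))
          = c * c * c * (c * c * c) * (c * c * c * (c * c * c)) := by group
        _ = 1 := h.Q_sq_orderOf hc3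
    · rw [map_mul, map_mul, hc, ← mul_assoc, xAlt_three.1, one_mul]
  obtain ⟨t, ht2, htp⟩ : ∃ t : X, t * t = 1 ∧ frameHom F hzc t = xAlt * yAlt := by
    have hp := F.p_invol h (hzc t₀) ht₀ ht₀Q
    obtain ⟨g, hg⟩ := Alt.inv_conj _ _ hp.1 hp.2 xy_invol.2 xy_invol.1
    obtain ⟨c, rfl⟩ := frameHom_surj h hzc F g
    refine ⟨c * t₀ * c⁻¹, ?_, ?_⟩
    · calc c * t₀ * c⁻¹ * (c * t₀ * c⁻¹) = c * (t₀ * t₀) * c⁻¹ := by group
        _ = 1 := by rw [ht₀]; group
    · rw [map_mul, map_mul, map_inv, ← hg]; rfl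
  have hy : frameHom F hzc (x⁻¹ * t) = yAlt := by rw [map_mul, map_inv, hxp, htp]; group
  rcases eq_or_eq_z_of_five h hzc F hy with e | e
  · exact ⟨x, x⁻¹ * t, by rw [pow_succ, sq, hx3], e, by rw [mul_inv_cancel_left, sq, ht2], hxp, hy⟩
  · refine ⟨x, x⁻¹ * t * z, by rw [pow_succ, sq, hx3], ?_, ?_, hxp, ?_⟩
    · rw [(show Commute (x⁻¹ * t) z from hzc _).mul_pow, e, ← pow_succ', show (5 + 1 : ℕ) = 2 * 3 from rfl,
        pow_mul, sq z, h.zz, one_pow]
    · rw [← mul_assoc, mul_inv_cancel_left, (show Commute t z from hzc _).mul_pow, sq, sq, ht2, h.zz, one_mul]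
    · rw [map_mul, hy, (frameHom_ker h hzc F z).2 h.hzQ, mul_one]

/-- A complement. -/
theorem exists_section (hout : ∃ t : X, t * t = 1 ∧ t ∉ Q) :
    ∃ σ : alternatingGroup (Fin 5) →* X, ∀ g, frameHom F hzc (σ g) = g := by
  obtain ⟨x, y, hx, hy, hxy, hxp, hyp⟩ := exists_gens h hzc F hout
  set L := Subgroup.closure ({x, y} : Set X) with hL
  have hxL : x ∈ L := Subgroup.subset_closure (by simp)
  have hyL : y ∈ L := Subgroup.subset_closure (by simp)
  have hle : Nat.card L ≤ 60 := (finite_card_le (G := L) ⟨x, hxL⟩ ⟨y, hyL⟩ (Subtype.ext hx)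
    (Subtype.ext hy) (Subtype.ext hxy) (by
      refine Eq.trans ?_ (Subgroup.closure_closure_coe_preimage (k := ({x, y} : Set X)))
      congr 1
      ext ⟨w, hw⟩
      simp [Subtype.ext_iff])).2
  set f := (frameHom F hzc).comp L.subtype with hf
  have hsurj : Function.Surjective f := by
    rw [← MonoidHom.range_eq_top, eq_top_iff, ← closure_alt, Subgroup.closure_le]
    rintro _ (rfl | rfl)
    exacts [⟨⟨x, hxL⟩, hxp⟩, ⟨⟨y, hyL⟩, hyp⟩]
  have hbij : Function.Bijective f := (Nat.bijective_iff_surjective_and_card f).2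
    ⟨hsurj, le_antisymm (le_trans hle (by rw [nat_card_alternatingGroup, Nat.card_fin]; rfl))
      (Nat.card_le_card_of_surjective f hsurj)⟩
  exact ⟨L.subtype.comp (MulEquiv.ofBijective f hbij).symm.toMonoidHom,
    fun g => (MulEquiv.ofBijective f hbij).apply_symm_apply g⟩

omit [Finite X] in
theorem nc_of_eqz {a b c d : X} (hnc : c * d = d * c * z) (ha : Eqz z a c) (hb : Eqz z b d) :
    a * b = b * a * z := by
  have hz' : ∀ p q : X, p * z * q = p * q * z := fun p q => by rw [mul_assoc, ← hzc, ← mul_assoc]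
  rcases ha with rfl | rfl <;> rcases hb with rfl | rfl <;>
    (try simp only [← mul_assoc, hz']) <;> rw [hnc]

end

/-- A normalized frame with a complement permuting it. -/
structure NormFrame (z : X) (Q : Subgroup X) where
  σ : alternatingGroup (Fin 5) →* X
  a : Fin 5 → X
  mem : ∀ i, a i ∈ Q
  sq : ∀ i, a i * a i = 1
  nc : ∀ i j, i ≠ j → a i * a j = a j * a i * z
  conj : ∀ g i, σ g * a i * (σ g)⁻¹ = a ((g : Perm (Fin 5)) i)
  prod : a 0 * a 1 * a 2 * a 3 * a 4 = 1
  gen : Q ≤ Subgroup.closure (insert z (Set.range a))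
  decomp : ∀ x : X, ∃ q ∈ Q, ∃ g, x = q * σ g

theorem exists_normFrame (h : PreCore z Q) (hzc : ∀ x : X, x * z = z * x)
    (hout : ∃ t : X, t * t = 1 ∧ t ∉ Q) : Nonempty (NormFrame z Q) := by
  classical
  obtain ⟨F⟩ := h.exists_frame
  obtain ⟨σ, hσ⟩ := exists_section h hzc F hout
  have hact : ∀ g i, Eqz z (σ g * F.a i * (σ g)⁻¹) (F.a ((g : Perm (Fin 5)) i)) := fun g i => by
    have := frameHom_act h hzc F (σ g) i
    rwa [hσ] at this
  -- the stabilizer of the last point centralizes the last involution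
  have hthree : ∀ r : alternatingGroup (Fin 5), r * r * r = 1 → (r : Perm (Fin 5)) 4 = 4 →
      σ r * F.a 4 = F.a 4 * σ r := by
    intro r hr hr4
    refine CfsgLib.A8Three.commute_of_odd_mul (z := z) ((show Odd 3 by decide).of_dvd_nat
      (orderOf_dvd_of_pow_eq_one (by rw [pow_succ, sq, ← map_mul, ← map_mul, hr, map_one])))
      (hzc _) h.zz ?_
    have := hact r 4
    rwa [hr4] at this
  have hstab : ∀ g : alternatingGroup (Fin 5), (g : Perm (Fin 5)) 4 = 4 →
      σ g * F.a 4 * (σ g)⁻¹ = F.a 4 := by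
    intro g hg
    obtain ⟨r, s, rfl, hr, hs, hr4, hs4⟩ := stab_gen g hg
    rw [map_mul, mul_inv_eq_iff_eq_mul, mul_assoc, hthree s hs hs4, ← mul_assoc, hthree r hr hr4,
      mul_assoc]
  choose gi hgi using fun i => Alt.transitive 4 i
  let a : Fin 5 → X := fun i => σ (gi i) * F.a 4 * (σ (gi i))⁻¹
  have hae : ∀ i, Eqz z (a i) (F.a i) := fun i => by
    have := hact (gi i) 4
    rwa [hgi] at this
  have hmem : ∀ i, a i ∈ Q := fun i => h.eqz_mem (F.mem i) (hae i)
  have hconj : ∀ g i, σ g * a i * (σ g)⁻¹ = a ((g : Perm (Fin 5)) i) := by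
    intro g i
    have hk := hstab ((gi ((g : Perm (Fin 5)) i))⁻¹ * g * gi i) (by
      simp only [Subgroup.coe_mul, InvMemClass.coe_inv, Equiv.Perm.mul_apply, hgi]
      rw [Equiv.Perm.inv_eq_iff_eq]
      exact (hgi _).symm)
    simp only [map_mul, map_inv] at hk
    show σ g * (σ (gi i) * F.a 4 * (σ (gi i))⁻¹) * (σ g)⁻¹ = _
    calc σ g * (σ (gi i) * F.a 4 * (σ (gi i))⁻¹) * (σ g)⁻¹
        = σ (gi ((g : Perm (Fin 5)) i)) * ((σ (gi ((g : Perm (Fin 5)) i)))⁻¹ * σ g * σ (gi i) * F.a 4 *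
            ((σ (gi ((g : Perm (Fin 5)) i)))⁻¹ * σ g * σ (gi i))⁻¹) * (σ (gi ((g : Perm (Fin 5)) i)))⁻¹ := by group
      _ = _ := by rw [hk]
  have hgen : Q ≤ Subgroup.closure (insert z (Set.range a)) := by
    set K := Subgroup.closure (insert z (Set.range a))
    have hzK : z ∈ K := Subgroup.subset_closure (Set.mem_insert _ _)
    have hFK : ∀ i, F.a i ∈ K := fun i => by
      have hai : a i ∈ K := Subgroup.subset_closure (Set.mem_insert_of_mem _ ⟨i, rfl⟩)
      rcases h.eqz_symm (hae i) with e | e <;> rw [e]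
      exacts [hai, mul_mem hai hzK]
    have he : ∀ {q r : X}, r ∈ K → Eqz z q r → q ∈ K := fun hr e => by
      rcases e with rfl | rfl
      exacts [hr, mul_mem hr hzK]
    intro q hq
    rcases F.cover q hq with e | ⟨i, e⟩ | ⟨i, j, -, e⟩
    exacts [he K.one_mem e, he (hFK i) e, he (mul_mem (hFK i) (hFK j)) e]
  have hsq : ∀ i, a i * a i = 1 := fun i => (h.eqz_sq (F.mem i) (hae i)).trans (F.sq i)
  have hnc : ∀ i j, i ≠ j → a i * a j = a j * a i * z := fun i j hij =>
    nc_of_eqz h hzc (F.nc i j hij) (hae i) (hae j)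
  have hdec : ∀ x : X, ∃ q ∈ Q, ∃ g, x = q * σ g := fun x => by
    refine ⟨x * (σ (frameHom F hzc x))⁻¹, (frameHom_ker h hzc F _).1 ?_, _,
      (inv_mul_cancel_right x _).symm⟩
    rw [map_mul, map_inv, hσ, mul_inv_cancel]
  -- the product of the five
  have hprod : a 0 * a 1 * a 2 * a 3 * a 4 = 1 ∨ a 0 * a 1 * a 2 * a 3 * a 4 = z := by
    set q := a 0 * a 1 * a 2 * a 3 * a 4 with hq
    have hqQ : q ∈ Q := mul_mem (mul_mem (mul_mem (mul_mem (hmem 0) (hmem 1)) (hmem 2)) (hmem 3)) (hmem 4)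
    haveI : Fact (Nat.Prime 5) := ⟨by norm_num⟩
    have h5 : orderOf (σ yAlt) = 5 := orderOf_eq_prime (by rw [← map_pow, yAlt_five.1, map_one]) fun e => by
      have := congrArg (frameHom F hzc) e
      rw [hσ, map_one] at this
      exact yAlt_five.2 this
    refine h.fixed_five_eqz (hzc _) h5 hqQ ?_
    have e1 : σ yAlt * q * (σ yAlt)⁻¹ = a 2 * a 3 * a 4 * a 0 * a 1 := by
      rw [hq, show σ yAlt * (a 0 * a 1 * a 2 * a 3 * a 4) * (σ yAlt)⁻¹ =
        σ yAlt * a 0 * (σ yAlt)⁻¹ * (σ yAlt * a 1 * (σ yAlt)⁻¹) * (σ yAlt * a 2 * (σ yAlt)⁻¹) *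
          (σ yAlt * a 3 * (σ yAlt)⁻¹) * (σ yAlt * a 4 * (σ yAlt)⁻¹) by group]
      simp only [hconj, yAlt_apply]
      rfl
    rw [e1]
    obtain ⟨u, hu, huQ⟩ : ∃ u, u = a 0 * a 1 ∧ u ∈ Q := ⟨_, rfl, mul_mem (hmem 0) (hmem 1)⟩
    have e2 : a 2 * a 3 * a 4 * a 0 * a 1 = u⁻¹ * q * u := by rw [hu, hq]; group
    rw [e2]
    rcases h.hcomm q hqQ u huQ with e | e
    · exact Or.inl (by rw [mul_assoc, e, inv_mul_cancel_left])
    · exact Or.inr (by rw [mul_assoc, e, ← mul_assoc, ← mul_assoc, inv_mul_cancel, one_mul])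
  rcases hprod with e | e
  · exact ⟨⟨σ, a, hmem, hsq, hnc, hconj, e, hgen, hdec⟩⟩
  · have haz : ∀ i, Eqz z (a i * z) (a i) := fun i => Or.inr rfl
    refine ⟨⟨σ, fun i => a i * z, fun i => mul_mem (hmem i) h.hzQ, fun i => (h.eqz_sq (hmem i) (haz i)).trans (hsq i),
      fun i j hij => nc_of_eqz h hzc (hnc i j hij) (haz i) (haz j), fun g i => ?_, ?_, ?_, hdec⟩⟩
    · calc σ g * (a i * z) * (σ g)⁻¹ = σ g * a i * (z * (σ g)⁻¹) := by group
        _ = σ g * a i * ((σ g)⁻¹ * z) := by rw [hzc]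
        _ = a ((g : Perm (Fin 5)) i) * z := by rw [← mul_assoc, hconj]
    · have hc : ∀ x y : X, x * z * y = x * y * z := fun x y => by rw [mul_assoc, ← hzc, ← mul_assoc]
      simp only [← mul_assoc, hc]
      rw [e, h.zz, one_mul, h.zz, one_mul, h.zz]
    · refine hgen.trans ((Subgroup.closure_le _).2 ?_)
      rintro w (rfl | ⟨i, rfl⟩)
      · exact Subgroup.subset_closure (Set.mem_insert _ _)
      · have h1 : a i * z ∈ Subgroup.closure (insert z (Set.range fun i => a i * z)) :=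
          Subgroup.subset_closure (Set.mem_insert_of_mem _ ⟨i, rfl⟩)
        have h2 := mul_mem h1 (Subgroup.subset_closure (Set.mem_insert z (Set.range fun i => a i * z)))
        rwa [mul_assoc, h.zz, mul_one] at h2

end CfsgLib.J2Type
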