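import Cfsg.Agent.J2Type.Closed

/-!
# No involution outside `Q` is conjugate into the last pair
-/

set_option autoImplicit false
set_option linter.style.haveILetI false
set_option linter.unusedSectionVars false
set_option maxRecDepth 100000

namespace CfsgLib.J2Type

open CfsgLib.HallJanko Subgroup
open CfsgLib.A8Three (kl)
open Equiv (Perm)

variable {G : Type*} [Group G] [Finite G]

namespace Data

variable {z : G} {S : Sylow 2 G} (D : Data z (S : Subgroup G))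
include D

/-- In an elementary abelian centralizer, the flag and one more element give everything. -/
theorem flag_or {v x t' : G} (hv : v ∈ (S : Subgroup G)) (hv2 : v * v = 1) (hvQ : v ∉ D.Q)
    (hx : x ∈ (S : Subgroup G)) (hxv : x * v = v * x) (ht' : t' ∈ (S : Subgroup G)) (htv : t' * v = v * t')
    (htF : ¬ D.Flag v t') : D.Flag v x ∨ D.Flag v (x * t') := by
  obtain ⟨i, hi0, hi⟩ := D.out_act hv hvQ
  by_cases hxF : D.Flag v x
  · exact Or.inl hxF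
  refine Or.inr (not_not.1 fun hxtF => ?_)
  obtain ⟨l, hl0, hli, hl⟩ := D.not_flag hv hv2 hvQ hi ht' htv htF
  obtain ⟨m, hm0, hmi, hm⟩ := D.not_flag hv hv2 hvQ hi hx hxv hxF
  obtain ⟨r, hr0, hri, hr⟩ := D.not_flag hv hv2 hvQ hi (mul_mem hx ht')
    ((show Commute x v from hxv).mul_left htv).eq hxtF
  have hcomp : ∀ j, kl r j = kl m (kl l j) := fun j => by
    refine D.dist _ _ (D.trans (D.symm (hr j)) ?_)
    rw [show x * t' * D.a j * (x * t')⁻¹ = x * (t' * D.a j * t'⁻¹) * x⁻¹ by group]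
    exact D.trans (D.eqz_conj (D.zS x hx) (hl j)) (hm _)
  rcases kl_third i hi0 l hl0 hli m hm0 hmi with h | h
  · exact hr0 (CfsgLib.A8Three.kl_inj r 0 (Equiv.ext fun j => by rw [hcomp, h, kl_zero]))
  · exact hri (CfsgLib.A8Three.kl_inj r i (Equiv.ext fun j => by rw [hcomp, h]))

theorem no_outside {g : G} (hg : g * z = z * g) (hS : g * D.a 4 * g⁻¹ ∈ (S : Subgroup G)) :
    g * D.a 4 * g⁻¹ ∈ D.Q := by
  classical
  haveI : Fact (Nat.Prime 2) := ⟨Nat.prime_two⟩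
  by_contra htQ
  obtain ⟨t, ht⟩ : ∃ t, t = g * D.a 4 * g⁻¹ := ⟨_, rfl⟩
  rw [← ht] at hS htQ
  have ht2 : t * t = 1 := by
    rw [ht, show g * D.a 4 * g⁻¹ * (g * D.a 4 * g⁻¹) = g * (D.a 4 * D.a 4) * g⁻¹ by group, D.sq, mul_one,
      mul_inv_cancel]
  have htz : t * z = z * t := D.zS t hS
  have h4z : D.a 4 * z = z * D.a 4 := D.zQc (D.mem 4)
  have h1z : (1 : G) * z = z * 1 := by rw [one_mul, mul_one]
  have ht4 := D.comm4 hS ht2 htQ
  obtain ⟨E, hE⟩ : ∃ E : Subgroup G, E = (S : Subgroup G) ⊓ centralizer ({t} : Set G) := ⟨_, rfl⟩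
  have hEmem : ∀ {x : G}, x ∈ E ↔ x ∈ (S : Subgroup G) ∧ x * t = t * x := fun {x} => by
    rw [hE, mem_inf, mem_centralizer_singleton_iff]
  have hEcard : Nat.card E = 16 := hE ▸ D.cent_card t hS ht2 htQ
  have hEsq : ∀ x ∈ E, x * x = 1 ∧ x * D.a 4 = D.a 4 * x := fun x hx =>
    D.cent_sq t hS ht2 htQ x (hEmem.1 hx).1 (hEmem.1 hx).2
  have hzE : z ∈ E := hEmem.2 ⟨D.Q_le D.zQ, htz.symm⟩
  have h4E : D.a 4 ∈ E := hEmem.2 ⟨D.Q_le (D.mem 4), ht4.symm⟩
  have htE : t ∈ E := hEmem.2 ⟨hS, rfl⟩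
  have hEz : ∀ {x : G}, x ∈ E → x * z = z * x := fun hx => D.zS _ (hEmem.1 hx).1
  have hEq : ∀ {x y : G}, y ∈ E → Eqz z x y → x ∈ E := fun hy e => by
    rcases e with e | e <;> rw [e]
    exacts [hy, mul_mem hy hzE]
  have hFlagE : ∀ {x : G}, D.Flag t x → x ∈ E := fun hf => by
    rcases hf with e | e | e | e
    exacts [hEq E.one_mem e, hEq h4E e, hEq htE e, hEq (mul_mem h4E htE) e]
  -- an element of `E` outside the flag
  obtain ⟨t', ht'E, ht'F⟩ : ∃ t' ∈ E, ¬ D.Flag t t' := by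
    by_contra hno
    simp only [not_exists, not_and, not_not] at hno
    let f : Bool × Bool × Bool → G := fun p =>
      (if p.1 then D.a 4 else 1) * (if p.2.1 then t else 1) * (if p.2.2 then z else 1)
    have hsub : (E : Set G) ⊆ Set.range f := fun x hx => by
      rcases hno x hx with (e | e) | (e | e) | (e | e) | (e | e)
      exacts [⟨(false, false, false), by simp [f, e]⟩, ⟨(false, false, true), by simp [f, e]⟩,
        ⟨(true, false, false), by simp [f, e]⟩, ⟨(true, false, true), by simp [f, e]⟩,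
        ⟨(false, true, false), by simp [f, e]⟩, ⟨(false, true, true), by simp [f, e]⟩,
        ⟨(true, true, false), by simp [f, e]⟩, ⟨(true, true, true), by simp [f, e]⟩]
    have h' := (Set.ncard_le_ncard hsub (Set.toFinite _)).trans
      (le_of_eq_of_le (Nat.card_coe_set_eq _).symm (Finite.card_range_le f))
    rw [← Nat.card_coe_set_eq] at h'
    have h16 : Nat.card (E : Set G) = 16 := hEcard
    simp only [Nat.card_eq_fintype_card (α := Bool × Bool × Bool), Fintype.card_prod, Fintype.card_bool] at h'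
    omega
  obtain ⟨c, c', ⟨hcQ, hc4⟩, ⟨hc'Q, hc'4⟩, hcS, hc'S, hct, hc't, hcx⟩ := D.exists_movers hS ht2 htQ
  have hc4' : c * D.a 4 * c⁻¹ = D.a 4 := by rw [hc4, mul_inv_cancel_right]
  have hc'4' : c' * D.a 4 * c'⁻¹ = D.a 4 := by rw [hc'4, mul_inv_cancel_right]
  have hcE : ∀ {q : G}, (∀ x ∈ (S : Subgroup G), Eqz z (q * x * q⁻¹) x ∨ Eqz z (q * x * q⁻¹) (D.a 4 * x)) →
      ∀ x ∈ E, q * x * q⁻¹ ∈ E := fun hq x hx => by
    rcases hq x (hEmem.1 hx).1 with e | e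
    exacts [hEq hx e, hEq (mul_mem h4E hx) e]
  -- the mover fixing `t` and `a 4` and multiplying the others by `t`
  obtain ⟨d, hdz, hdt, hd4, hdE, hdx⟩ : ∃ d : G, d * z = z * d ∧ d * t * d⁻¹ = t ∧
      Eqz z (d * D.a 4 * d⁻¹) (D.a 4) ∧ (∀ x ∈ E, d * x * d⁻¹ ∈ E) ∧
      ∀ x ∈ E, ¬ D.Flag t x → Eqz z (d * x * d⁻¹) (t * x) := by
    set W := E.map (MulAut.conj g⁻¹).toMonoidHom with hW
    have hgi : g⁻¹ * z = z * g⁻¹ := (show Commute g z from hg).inv_left.eq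
    have hWle : W ≤ centralizer ({z} : Set G) ⊓ centralizer ({D.a 4} : Set G) := by
      rintro _ ⟨x, hx, rfl⟩
      refine mem_inf.2 ⟨mem_centralizer_singleton_iff.2 ?_, mem_centralizer_singleton_iff.2 ?_⟩
      · exact (((show Commute g⁻¹ z from hgi).mul_left (hEz hx)).mul_left
          (show Commute g⁻¹ z from hgi).inv_left).eq
      · show g⁻¹ * x * g⁻¹⁻¹ * D.a 4 = D.a 4 * (g⁻¹ * x * g⁻¹⁻¹)
        calc g⁻¹ * x * g⁻¹⁻¹ * D.a 4 = g⁻¹ * (x * t) * g := by rw [ht]; group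
          _ = g⁻¹ * (t * x) * g := by rw [(hEmem.1 hx).2]
          _ = _ := by rw [ht]; group
    obtain ⟨h, hh, hhR⟩ := conj_into (S.isPGroup'.to_le (inf_le_left :
        (S : Subgroup G) ⊓ centralizer ({D.a 4} : Set G) ≤ S))
      (le_inf (inf_le_left.trans D.S_le_C) inf_le_right) (fun U hU hU' => D.max_R hU hU')
      ((S.isPGroup'.to_le (hE ▸ inf_le_left : E ≤ (S : Subgroup G))).map _) hWle
    have hhz := mem_centralizer_singleton_iff.1 (mem_inf.1 hh).1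
    have hh4 := mem_centralizer_singleton_iff.1 (mem_inf.1 hh).2
    obtain ⟨k, hk⟩ : ∃ k, k = h * g⁻¹ := ⟨_, rfl⟩
    have hkz : k * z = z * k := by rw [hk]; exact ((show Commute h z from hhz).mul_left hgi).eq
    have hkt : k * t * k⁻¹ = D.a 4 := by
      rw [hk, ht, show h * g⁻¹ * (g * D.a 4 * g⁻¹) * (h * g⁻¹)⁻¹ = h * D.a 4 * h⁻¹ by group, hh4,
        mul_inv_cancel_right]
    have hkR : ∀ x ∈ E, k * x * k⁻¹ ∈ (S : Subgroup G) ∧ k * x * k⁻¹ * D.a 4 = D.a 4 * (k * x * k⁻¹) := by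
      intro x hx
      have := mem_inf.1 (hhR _ ⟨x, hx, rfl⟩)
      rw [hk, show h * g⁻¹ * x * (h * g⁻¹)⁻¹ = h * (g⁻¹ * x * g⁻¹⁻¹) * h⁻¹ by group]
      exact ⟨this.1, mem_centralizer_singleton_iff.1 this.2⟩
    obtain ⟨s, hs⟩ : ∃ s, s = k * D.a 4 * k⁻¹ := ⟨_, rfl⟩
    have hsS : s ∈ (S : Subgroup G) := hs ▸ (hkR _ h4E).1
    have hs2 : s * s = 1 := by
      rw [hs, show k * D.a 4 * k⁻¹ * (k * D.a 4 * k⁻¹) = k * (D.a 4 * D.a 4) * k⁻¹ by group, D.sq, mul_one,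
        mul_inv_cancel]
    have hsQ : s ∉ D.Q := by
      intro hsQ
      have hki : k⁻¹ * z = z * k⁻¹ := (show Commute k z from hkz).inv_left.eq
      have hback : k⁻¹ * s * k⁻¹⁻¹ = D.a 4 := by rw [hs]; group
      rcases D.invol_Q hsQ hs2 with e | ⟨i, e⟩
      · have := D.eqz_conj hki e
        rw [hback, mul_one, mul_inv_cancel] at this
        rcases this with e' | e'
        exacts [D.ne_one 4 e', D.ne_z 4 (e'.trans (one_mul z))]
      · have h4s : s * D.a 4 = D.a 4 * s := hs ▸ (hkR _ h4E).2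
        obtain rfl : i = 4 := by
          by_contra hi
          have h' := (D.eqz_comm h4z e).1 h4s.symm
          rw [D.nc 4 i (Ne.symm hi)] at h'
          exact D.z1 (mul_eq_left.1 h')
        have := D.eqz_conj hki e
        rw [hback, show k⁻¹ * D.a 4 * k⁻¹⁻¹ = t by rw [← hkt]; group] at this
        exact htQ (D.eqz_mem (D.mem 4) (D.symm this))
    have hsE : ∀ x ∈ E, k * x * k⁻¹ * s = s * (k * x * k⁻¹) := fun x hx => by
      rw [hs, show k * x * k⁻¹ * (k * D.a 4 * k⁻¹) = k * (x * D.a 4) * k⁻¹ by group, (hEsq x hx).2]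
      group
    have hmap : E.map (MulAut.conj k).toMonoidHom = (S : Subgroup G) ⊓ centralizer ({s} : Set G) := by
      refine Subgroup.eq_of_le_of_card_ge ?_ ?_
      · rintro _ ⟨x, hx, rfl⟩
        exact mem_inf.2 ⟨(hkR x hx).1, mem_centralizer_singleton_iff.2 (hsE x hx)⟩
      · rw [D.cent_card s hsS hs2 hsQ, ← Nat.card_congr (E.equivMapOfInjective _ (MulAut.conj k).injective).toEquiv,
          hEcard]
    obtain ⟨q, -, ⟨hqQ, hq4⟩, -, hqS, -, hqs, -, hqx⟩ := D.exists_movers hsS hs2 hsQ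
    have hki : k⁻¹ * z = z * k⁻¹ := (show Commute k z from hkz).inv_left.eq
    have hkt' : k⁻¹ * D.a 4 * k⁻¹⁻¹ = t := by rw [← hkt]; group
    have hks : k⁻¹ * s * k⁻¹⁻¹ = D.a 4 := by rw [hs]; group
    refine ⟨k⁻¹ * q * k, ?_, ?_, ?_, ?_, ?_⟩
    · exact (((show Commute k⁻¹ z from hki).mul_left (D.zQc hqQ)).mul_left hkz).eq
    · rw [show k⁻¹ * q * k * t * (k⁻¹ * q * k)⁻¹ = k⁻¹ * (q * (k * t * k⁻¹) * q⁻¹) * k by group, hkt, hq4,
        mul_inv_cancel_right, ← hkt]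
      group
    · rw [show k⁻¹ * q * k * D.a 4 * (k⁻¹ * q * k)⁻¹ = k⁻¹ * (q * (k * D.a 4 * k⁻¹) * q⁻¹) * k⁻¹⁻¹ by group, ← hs]
      have := D.eqz_conj hki hqs
      rwa [hks] at this
    · intro x hx
      have hy : k * x * k⁻¹ ∈ (S : Subgroup G) ⊓ centralizer ({s} : Set G) := hmap ▸ ⟨x, hx, rfl⟩
      have h4' : D.a 4 ∈ (S : Subgroup G) ⊓ centralizer ({s} : Set G) :=
        mem_inf.2 ⟨D.Q_le (D.mem 4), mem_centralizer_singleton_iff.2 (D.comm4 hsS hs2 hsQ).symm⟩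
      have hz' : z ∈ (S : Subgroup G) ⊓ centralizer ({s} : Set G) :=
        mem_inf.2 ⟨D.Q_le D.zQ, mem_centralizer_singleton_iff.2 (D.zS s hsS).symm⟩
      have hmem : q * (k * x * k⁻¹) * q⁻¹ ∈ (S : Subgroup G) ⊓ centralizer ({s} : Set G) := by
        rcases hqS _ (mem_inf.1 hy).1 with (e | e) | (e | e) <;> rw [e]
        exacts [hy, mul_mem hy hz', mul_mem h4' hy, mul_mem (mul_mem h4' hy) hz']
      rw [← hmap] at hmem
      obtain ⟨w, hw, hwe⟩ := hmem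
      have hwe' : k * w * k⁻¹ = q * (k * x * k⁻¹) * q⁻¹ := hwe
      rw [show k⁻¹ * q * k * x * (k⁻¹ * q * k)⁻¹ = k⁻¹ * (q * (k * x * k⁻¹) * q⁻¹) * k by group, ← hwe']
      simpa [mul_assoc] using hw
    · intro x hx hxF
      have hyF : ¬ D.Flag s (k * x * k⁻¹) := by
        intro hf
        refine hxF ?_
        have hb : ∀ {w : G}, Eqz z (k * x * k⁻¹) w → Eqz z x (k⁻¹ * w * k⁻¹⁻¹) := fun {w} e => by
          have := D.eqz_conj hki e
          rwa [show k⁻¹ * (k * x * k⁻¹) * k⁻¹⁻¹ = x by group] at this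
        rcases hf with e | e | e | e
        · exact Or.inl (by have := hb e; rwa [mul_one, mul_inv_cancel] at this)
        · exact Or.inr (Or.inr (Or.inl (by have := hb e; rwa [hkt'] at this)))
        · exact Or.inr (Or.inl (by have := hb e; rwa [hks] at this))
        · refine Or.inr (Or.inr (Or.inr ?_))
          have := hb e
          rw [show k⁻¹ * (D.a 4 * s) * k⁻¹⁻¹ = k⁻¹ * D.a 4 * k⁻¹⁻¹ * (k⁻¹ * s * k⁻¹⁻¹) by group, hkt', hks,
            ht4] at this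
          exact this
      have := D.eqz_conj hki (hqx _ (hkR x hx).1 (hsE x hx) hyF)
      rw [show k⁻¹ * (q * (k * x * k⁻¹) * q⁻¹) * k⁻¹⁻¹ = k⁻¹ * q * k * x * (k⁻¹ * q * k)⁻¹ by group,
        show k⁻¹ * (D.a 4 * (k * x * k⁻¹)) * k⁻¹⁻¹ = k⁻¹ * D.a 4 * k⁻¹⁻¹ * x by group, hkt'] at this
      exact this
  -- the chain of stabilizers
  have h4t : D.a 4 * t = t * D.a 4 := ht4.symm
  have hmul4 : ∀ {n x y : G}, n * z = z * n → y * z = z * y → Eqz z (n * D.a 4 * n⁻¹) (D.a 4) →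
      Eqz z (n * x * n⁻¹) y → Eqz z (n * (D.a 4 * x) * n⁻¹) (D.a 4 * y) := fun {n x y} _ hy e e' => by
    rw [show n * (D.a 4 * x) * n⁻¹ = n * D.a 4 * n⁻¹ * (n * x * n⁻¹) by group]
    exact D.eqz_mul hy e e'
  have hcomp : ∀ {m n x y : G}, m * z = z * m → Eqz z (n * x * n⁻¹) y → ∀ {w : G},
      Eqz z (m * y * m⁻¹) w → Eqz z (m * n * x * (m * n)⁻¹) w := fun {m n x y} hm e w e' => by
    rw [show m * n * x * (m * n)⁻¹ = m * (n * x * n⁻¹) * m⁻¹ by group]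
    exact D.trans (D.eqz_conj hm e) e'
  have h44 : ∀ x : G, D.a 4 * (D.a 4 * x) = x := fun x => by rw [← mul_assoc, D.sq, one_mul]
  let P : G → Prop := fun n => n * z = z * n ∧ Eqz z (n * D.a 4 * n⁻¹) (D.a 4) ∧ ∀ x ∈ E, n * x * n⁻¹ ∈ E
  have hP1 : P 1 := ⟨h1z, Or.inl (by simp), fun x hx => by simpa using hx⟩
  have hPm : ∀ m n, P m → P n → P (m * n) := fun m n ⟨h1, h2, h3⟩ ⟨k1, k2, k3⟩ =>
    ⟨((show Commute m z from h1).mul_left k1).eq, hcomp h1 k2 h2, fun x hx => by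
      rw [show m * n * x * (m * n)⁻¹ = m * (n * x * n⁻¹) * m⁻¹ by group]
      exact h3 _ (k3 x hx)⟩
  let M := subOfMul (fun n => P n ∧ (Eqz z (n * t * n⁻¹) t ∨ Eqz z (n * t * n⁻¹) (D.a 4 * t)))
    ⟨hP1, Or.inl (Or.inl (by simp))⟩ fun m n ⟨hm, hm'⟩ ⟨hn, hn'⟩ => ⟨hPm m n hm hn, by
      rcases hn' with e | e <;> rcases hm' with e' | e'
      · exact Or.inl (hcomp hm.1 e e')
      · exact Or.inr (hcomp hm.1 e e')
      · exact Or.inr (hcomp hm.1 e (hmul4 hm.1 htz hm.2.1 e'))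
      · refine Or.inl (hcomp hm.1 e ?_)
        have := hmul4 hm.1 (hEz (mul_mem h4E htE)) hm.2.1 e'
        rwa [h44] at this⟩
  let M₁ := subOfMul (fun n => P n ∧ Eqz z (n * t * n⁻¹) t)
    ⟨hP1, Or.inl (by simp)⟩ fun m n ⟨hm, hm'⟩ ⟨hn, hn'⟩ => ⟨hPm m n hm hn, hcomp hm.1 hn' hm'⟩
  let M₂ := subOfMul (fun n => (P n ∧ Eqz z (n * t * n⁻¹) t) ∧
      (Eqz z (n * t' * n⁻¹) t' ∨ Eqz z (n * t' * n⁻¹) (D.a 4 * t')))
    ⟨⟨hP1, Or.inl (by simp)⟩, Or.inl (Or.inl (by simp))⟩ fun m n ⟨⟨hm, hm'⟩, hm''⟩ ⟨⟨hn, hn'⟩, hn''⟩ =>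
      ⟨⟨hPm m n hm hn, hcomp hm.1 hn' hm'⟩, by
        rcases hn'' with e | e <;> rcases hm'' with e' | e'
        · exact Or.inl (hcomp hm.1 e e')
        · exact Or.inr (hcomp hm.1 e e')
        · exact Or.inr (hcomp hm.1 e (hmul4 hm.1 (hEz ht'E) hm.2.1 e'))
        · refine Or.inl (hcomp hm.1 e ?_)
          have := hmul4 hm.1 (hEz (mul_mem h4E ht'E)) hm.2.1 e'
          rwa [h44] at this⟩
  let M₃ := subOfMul (fun n => (P n ∧ Eqz z (n * t * n⁻¹) t) ∧ Eqz z (n * t' * n⁻¹) t')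
    ⟨⟨hP1, Or.inl (by simp)⟩, Or.inl (by simp)⟩ fun m n ⟨⟨hm, hm'⟩, hm''⟩ ⟨⟨hn, hn'⟩, hn''⟩ =>
      ⟨⟨hPm m n hm hn, hcomp hm.1 hn' hm'⟩, hcomp hm.1 hn'' hm''⟩
  have h21 : M₁ ≤ M := fun n ⟨h1, h2⟩ => ⟨h1, Or.inl h2⟩
  have h32 : M₂ ≤ M₁ := fun n h => h.1
  have h43 : M₃ ≤ M₂ := fun n h => ⟨h.1, Or.inl h.2⟩
  have hEM : E ≤ M₃ := by
    intro x hx
    have hconj : ∀ y ∈ E, x * y * x⁻¹ = y := fun y hy => by
      have h1 := (hEsq x hx).1
      have h2 := (hEsq y hy).1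
      have h3 := (hEsq _ (mul_mem hx hy)).1
      have hxi : x⁻¹ = x := inv_eq_of_mul_eq_one_left h1
      calc x * y * x⁻¹ = x * y * (x * (y * y)) := by rw [hxi, h2, mul_one]
        _ = x * y * (x * y) * y := by group
        _ = y := by rw [h3, one_mul]
    exact ⟨⟨⟨hEz hx, Or.inl (hconj _ h4E), fun y hy => (hconj y hy).symm ▸ hy⟩, Or.inl (hconj _ htE)⟩,
      Or.inl (hconj _ ht'E)⟩
  have hcP : P c := ⟨D.zQc hcQ, Or.inl hc4', hcE hcS⟩
  have hc'P : P c' := ⟨D.zQc hc'Q, Or.inl hc'4', hcE hc'S⟩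
  have hdP : P d := ⟨hdz, hd4, hdE⟩
  have hd_t' := hdx t' ht'E ht'F
  have hc_t' := hcx t' (hEmem.1 ht'E).1 (hEmem.1 ht'E).2 ht'F
  have hne4 : ∀ {x : G}, x * z = z * x → ¬ Eqz z (D.a 4 * x) x := fun {x} _ e => by
    rcases e with e | e
    · exact D.ne_one 4 (mul_eq_right.1 e)
    · refine D.ne_z 4 (mul_right_cancel (b := x) (e.trans ?_))
      assumption
  have i1 : Nat.card M₁ * 2 = Nat.card M := by
    refine card_half h21 (a := c') ⟨hc'P, Or.inr hc't⟩ (fun h => hne4 htz (D.trans (D.symm hc't) h.2)) ?_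
    rintro b ⟨hb, hb'⟩
    rcases hb' with e | e
    · exact Or.inl ⟨hb, e⟩
    · refine Or.inr ⟨hPm b c' hb hc'P, hcomp hb.1 hc't ?_⟩
      have := hmul4 hb.1 (hEz (mul_mem h4E htE)) hb.2.1 e
      rwa [h44] at this
  have i3 : Nat.card M₃ * 2 = Nat.card M₂ := by
    refine card_half h43 (a := c) ⟨⟨hcP, hct⟩, Or.inr hc_t'⟩
      (fun h => hne4 (hEz ht'E) (D.trans (D.symm hc_t') h.2)) ?_
    rintro b ⟨⟨hb, hbt⟩, hb'⟩
    rcases hb' with e | e
    · exact Or.inl ⟨⟨hb, hbt⟩, e⟩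
    · refine Or.inr ⟨⟨hPm b c hb hcP, hcomp hb.1 hct hbt⟩, hcomp hb.1 hc_t' ?_⟩
      have := hmul4 hb.1 (hEz (mul_mem h4E ht'E)) hb.2.1 e
      rwa [h44] at this
  have i2 : Nat.card M₂ * 2 = Nat.card M₁ := by
    refine card_half h32 (a := d) ⟨hdP, Or.inl hdt⟩ (fun h => ?_) ?_
    · obtain ⟨-, e | e⟩ := h
      · rcases D.trans (D.symm hd_t') e with e' | e'
        · rw [mul_eq_right] at e'
          exact htQ (e'.symm ▸ D.Q.one_mem)
        · exact htQ ((mul_right_cancel (b := t') (e'.trans (hEz ht'E))).symm ▸ D.zQ)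
      · rcases D.trans (D.symm hd_t') e with e' | e'
        · exact htQ ((mul_right_cancel e').symm ▸ D.mem 4)
        · rw [mul_assoc (D.a 4) t', hEz ht'E, ← mul_assoc] at e'
          exact htQ ((mul_right_cancel e').symm ▸ mul_mem (D.mem 4) D.zQ)
    rintro b ⟨hb, hbt⟩
    have hbt' : b * t' * b⁻¹ ∈ E := hb.2.2 _ ht'E
    have hbi : b⁻¹ ∈ M₁ := inv_mem (show b ∈ M₁ from ⟨hb, hbt⟩)
    obtain ⟨⟨hbiz, hbi4, -⟩, hbit⟩ := hbi
    have hnF : ¬ D.Flag t (b * t' * b⁻¹) := by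
      intro hf
      refine ht'F ?_
      have hback : ∀ {u w : G}, Eqz z (b * t' * b⁻¹) u → Eqz z (b⁻¹ * u * b⁻¹⁻¹) w → Eqz z t' w := fun e e' => by
        have := D.trans (D.eqz_conj hbiz e) e'
        rwa [show ∀ y : G, b⁻¹ * (b * y * b⁻¹) * b⁻¹⁻¹ = y from fun y => by group] at this
      rcases hf with e | e | e | e
      · exact Or.inl (hback e (Or.inl (by simp)))
      · exact Or.inr (Or.inl (hback e hbi4))
      · exact Or.inr (Or.inr (Or.inl (hback e hbit)))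
      · exact Or.inr (Or.inr (Or.inr (hback e (hmul4 hbiz htz hbi4 hbit))))
    rcases (D.flag_or hS ht2 htQ (hEmem.1 hbt').1 (hEmem.1 hbt').2 (hEmem.1 ht'E).1 (hEmem.1 ht'E).2
      ht'F).resolve_left hnF with e | e | e | e
    all_goals
      have e' := D.eqz_mul (hEz ht'E) e (Or.inl rfl : Eqz z t' t')
      rw [mul_assoc (b * t' * b⁻¹) t', (hEsq t' ht'E).1, mul_one] at e'
    · rw [one_mul] at e'
      exact Or.inl ⟨⟨hb, hbt⟩, Or.inl e'⟩
    · exact Or.inl ⟨⟨hb, hbt⟩, Or.inr e'⟩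
    all_goals refine Or.inr ⟨⟨hPm b d hb hdP, hcomp hb.1 (Or.inl hdt) hbt⟩, ?_⟩
    · refine Or.inl (hcomp hb.1 hd_t' ?_)
      rw [show b * (t * t') * b⁻¹ = b * t * b⁻¹ * (b * t' * b⁻¹) by group]
      refine D.trans (D.eqz_mul (hEz (mul_mem htE ht'E)) hbt e') (Or.inl ?_)
      rw [← mul_assoc, ht2, one_mul]
    · refine Or.inr (hcomp hb.1 hd_t' ?_)
      rw [show b * (t * t') * b⁻¹ = b * t * b⁻¹ * (b * t' * b⁻¹) by group]
      refine D.trans (D.eqz_mul (hEz (mul_mem (mul_mem h4E htE) ht'E)) hbt e') (Or.inl ?_)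
      rw [← mul_assoc, ← mul_assoc, ← h4t, mul_assoc (D.a 4), ht2, mul_one]
  -- some conjugate of `E` is normal in `S`
  have h128 : 128 ∣ Nat.card M := by
    rw [← i1, ← i2, ← i3]
    have : 16 ∣ Nat.card M₃ := hEcard ▸ Subgroup.card_dvd_of_le hEM
    omega
  have hMC : M ≤ centralizer ({z} : Set G) := fun n hn => mem_centralizer_singleton_iff.2 hn.1.1
  have hMN : M ≤ normalizer (E : Set G) := by
    intro n hn
    rw [mem_normalizer_iff_map_conj_eq]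
    refine Subgroup.eq_of_le_of_card_ge ?_ (le_of_eq
      (Nat.card_congr (E.equivMapOfInjective _ (MulAut.conj n).injective).toEquiv))
    rintro _ ⟨x, hx, rfl⟩
    exact hn.1.2.2 x hx
  obtain ⟨R, hR⟩ := Sylow.exists_subgroup_card_pow_prime 2 (n := 7) (G := M) h128
  set R' := R.map M.subtype with hR'
  have hR'p : IsPGroup 2 R' := (IsPGroup.of_card hR).map _
  have hR'M : R' ≤ M := map_subtype_le R
  have hW : IsPGroup 2 (E ⊔ R' : Subgroup G) :=
    (S.isPGroup'.to_le (hE ▸ inf_le_left : E ≤ (S : Subgroup G))).to_sup_of_normal_left' hR'p (hR'M.trans hMN)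
  obtain ⟨y, hy, hyS⟩ := conj_into S.isPGroup' D.S_le_C (fun U hU _ => card_le_sylow S hU) hW
    (sup_le ((hE ▸ inf_le_left : E ≤ (S : Subgroup G)).trans D.S_le_C) (hR'M.trans hMC))
  have hR'S : R'.map (MulAut.conj y).toMonoidHom = (S : Subgroup G) := by
    refine Subgroup.eq_of_le_of_card_ge ?_ ?_
    · rintro _ ⟨r, hr, rfl⟩
      exact hyS r (mem_sup_right hr)
    · rw [D.cardS, ← Nat.card_congr (R'.equivMapOfInjective _ (MulAut.conj y).injective).toEquiv, hR',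
        ← Nat.card_congr (R.equivMapOfInjective _ M.subtype_injective).toEquiv, hR]
      norm_num
  refine D.no_normal (E := E.map (MulAut.conj y).toMonoidHom) ?_ ?_ ?_ ?_
  · rintro _ ⟨x, hx, rfl⟩
    exact hyS x (mem_sup_left hx)
  · rw [← Nat.card_congr (E.equivMapOfInjective _ (MulAut.conj y).injective).toEquiv, hEcard]
  · rintro _ ⟨x, hx, rfl⟩
    rw [← map_mul, (hEsq x hx).1, map_one]
  · intro s hs _ hx'
    obtain ⟨x, hx, rfl⟩ := hx'
    rw [← hR'S] at hs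
    obtain ⟨r, hr, rfl⟩ := hs
    exact ⟨r * x * r⁻¹, (hMN (hR'M hr) |> mem_normalizer_iff.1) x |>.1 hx, by simp [mul_assoc]⟩

/-- `Q` is strongly closed in `S` with respect to `C(z)`. -/
theorem closed (h2 : ∀ H : Subgroup G, H.Normal → H.index ≠ 2) {g q : G} (hg : g * z = z * g)
    (hq : q ∈ D.Q) (hS : g * q * g⁻¹ ∈ (S : Subgroup G)) : g * q * g⁻¹ ∈ D.Q := by
  obtain ⟨P⟩ := exists_perms D h2
  have hgz' : g * z * g⁻¹ = z := by rw [hg, mul_inv_cancel_right]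
  rcases D.cover q hq with e | ⟨i, e⟩ | ⟨i, j, hij, e⟩
  · refine D.eqz_mem D.Q.one_mem ?_
    have := D.eqz_conj hg e
    rwa [mul_one, mul_inv_cancel] at this
  · obtain ⟨π, hπ, hπi⟩ : ∃ π : Equiv.Perm (Fin 5), Equiv.Perm.sign π = 1 ∧ π 4 = i := by
      obtain ⟨π, hπ⟩ := Alt.transitive 4 i
      exact ⟨π, Equiv.Perm.mem_alternatingGroup.1 π.2, hπ⟩
    obtain ⟨n, hn, hnp⟩ := P.surj π hπ
    have hnz := mem_centralizer_singleton_iff.1 (mem_inf.1 hn).1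
    have e1 := P.act n hn 4
    rw [hnp, hπi] at e1
    have hgn : g * n * z = z * (g * n) := ((show Commute g z from hg).mul_left hnz).eq
    have e2 : Eqz z (g * q * g⁻¹) (g * n * D.a 4 * (g * n)⁻¹) := by
      rw [show g * n * D.a 4 * (g * n)⁻¹ = g * (n * D.a 4 * n⁻¹) * g⁻¹ by group]
      exact D.eqz_conj hg (D.trans e (D.symm e1))
    refine D.eqz_mem (D.no_outside hgn ?_) e2
    rcases D.symm e2 with e' | e' <;> rw [e']
    exacts [hS, mul_mem hS (D.Q_le D.zQ)]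
  · refine D.root _ hS ?_
    rw [show g * q * g⁻¹ * (g * q * g⁻¹) = g * (q * q) * g⁻¹ by group,
      D.eqz_sq (D.zQc (mul_mem (D.mem i) (D.mem j))) e, D.sq4 hij, hgz']

end Data

end CfsgLib.J2Type
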